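import Cfsg.Agent.Lib.PermCert.Part

/-! Homomorphisms and isomorphisms from a common action table. -/

set_option autoImplicit false

namespace Cfsg.Agent.PC

open MulAction

variable {G K X Y : Type*} [Group G] [Group K] [MulAction G X] [MulAction K Y]
variable {px : ℕ → X} {py : ℕ → Y} {N : ℕ} {g : ℕ → G} {h : ℕ → K} {T : ℕ → ℕ → ℕ} {m : ℕ}

theorem pair_action (hg : Reps px N g T m) (hh : Reps py N h T m) (hi : Inj px N) :
    ∀ a ∈ gen (fun j => (g j, h j)) m, ∀ c < N, ∃ d < N, a.1 • px c = px d ∧ a.2 • py c = py d := by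
  letI : MulAction (G × K) X := MulAction.compHom X (MonoidHom.fst G K)
  letI : MulAction (G × K) Y := MulAction.compHom Y (MonoidHom.snd G K)
  have hr : Reps (fun c => (px c, py c)) N (fun j => (g j, h j)) T m := fun j hj c hc =>
    ⟨(hg j hj c hc).1, Prod.ext (hg j hj c hc).2 (hh j hj c hc).2⟩
  intro a ha c hc
  obtain ⟨d, hd, e⟩ := hr.orbit_sub (fun i hi' j hj e => hi i hi' j hj (congrArg Prod.fst e)) hc ha
  exact ⟨d, hd, congrArg Prod.fst e, congrArg Prod.snd e⟩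

/-- If `g j` and `h j` act by the same tables and the group generated by the `h j` is faithful on its labelled
points, then `g j ↦ h j` extends to a homomorphism, onto, whose kernel is the kernel of the action. -/
theorem hom_of_tables (hg : Reps px N g T m) (hh : Reps py N h T m) (hi : Inj px N) (hi' : Inj py N)
    (hf : ∀ b ∈ gen h m, (∀ c < N, b • py c = py c) → b = 1) :
    ∃ φ : gen g m →* K, (∀ j (hj : j < m), φ ⟨g j, mem_gen g hj⟩ = h j) ∧ φ.range = gen h m ∧
      (∀ a : gen g m, φ a = 1 ↔ ∀ c < N, (a : G) • px c = px c) ∧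
      ∀ a : gen g m, ∀ c < N, ∃ d < N, (a : G) • px c = px d ∧ φ a • py c = py d := by
  let P := gen (fun j => (g j, h j)) m
  have hP := pair_action hg hh hi
  have h1 : P.map (MonoidHom.fst G K) = gen g m := gen_map _ _ _
  have h2 : P.map (MonoidHom.snd G K) = gen h m := gen_map _ _ _
  let f : P →* gen g m := ((MonoidHom.fst G K).comp P.subtype).codRestrict _ fun a => h1 ▸ ⟨a, a.2, rfl⟩
  have hb : Function.Bijective f := by
    constructor
    · rw [injective_iff_map_eq_one]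
      intro a ha
      have e : a.1.1 = 1 := congrArg Subtype.val ha
      refine Subtype.ext (Prod.ext e (hf _ (h2 ▸ ⟨a, a.2, rfl⟩) fun c hc => ?_))
      obtain ⟨d, hd, e1, e2⟩ := hP a a.2 c hc
      rw [e, one_smul] at e1
      rw [e2, hi c hc d hd e1]
    · rintro ⟨b, hb⟩
      rw [← h1] at hb
      obtain ⟨a, ha, rfl⟩ := hb
      exact ⟨⟨a, ha⟩, rfl⟩
  let e := MulEquiv.ofBijective f hb
  have he : ∀ a : gen g m, (e.symm a).1.1 = a := fun a => congrArg Subtype.val (e.apply_symm_apply a)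
  let φ : gen g m →* K := ((MonoidHom.snd G K).comp P.subtype).comp e.symm.toMonoidHom
  have hφ : ∀ a : gen g m, ∀ c < N, ∃ d < N, (a : G) • px c = px d ∧ φ a • py c = py d := fun a c hc => by
    obtain ⟨d, hd, e1, e2⟩ := hP _ (e.symm a).2 c hc
    exact ⟨d, hd, he a ▸ e1, e2⟩
  have hr : φ.range = gen h m := by
    rw [← h2]
    ext b
    constructor
    · rintro ⟨a, rfl⟩; exact ⟨_, (e.symm a).2, rfl⟩
    · rintro ⟨a, ha, rfl⟩
      exact ⟨e ⟨a, ha⟩, by simp [φ]⟩
  refine ⟨φ, fun j hj => ?_, hr, fun a => ⟨fun ha c hc => ?_, fun ha => hf _ (hr ▸ ⟨a, rfl⟩) fun c hc => ?_⟩, hφ⟩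
  · have : e.symm ⟨g j, mem_gen g hj⟩ = ⟨(g j, h j), mem_gen _ hj⟩ := by
      rw [MulEquiv.symm_apply_eq]; rfl
    show (e.symm ⟨g j, mem_gen g hj⟩).1.2 = h j
    rw [this]
  · obtain ⟨d, hd, e1, e2⟩ := hφ a c hc
    rw [ha, one_smul] at e2
    rw [e1, hi' c hc d hd e2]
  · obtain ⟨d, hd, e1, e2⟩ := hφ a c hc
    rw [ha c hc] at e1
    rw [e2, hi c hc d hd e1]

theorem equiv_of_tables (hg : Reps px N g T m) (hh : Reps py N h T m) (hi : Inj px N) (hi' : Inj py N)
    (hf : ∀ a ∈ gen g m, (∀ c < N, a • px c = px c) → a = 1)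
    (hf' : ∀ b ∈ gen h m, (∀ c < N, b • py c = py c) → b = 1) {A : Subgroup G} {B : Subgroup K}
    (hA : gen g m = A) (hB : gen h m = B) : Nonempty (A ≃* B) := by
  obtain ⟨φ, -, h2, h3, -⟩ := hom_of_tables hg hh hi hi' hf'
  subst hA hB
  have : Function.Injective φ := by
    rw [injective_iff_map_eq_one]
    exact fun a ha => Subtype.ext (hf a a.2 ((h3 a).mp ha))
  exact ⟨(MonoidHom.ofInjective this).trans (MulEquiv.subgroupCongr h2)⟩

theorem equiv_top_of_tables (hg : Reps px N g T m) (hh : Reps py N h T m) (hi : Inj px N) (hi' : Inj py N)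
    (hf : ∀ a ∈ gen g m, (∀ c < N, a • px c = px c) → a = 1)
    (hf' : ∀ b ∈ gen h m, (∀ c < N, b • py c = py c) → b = 1) {A : Subgroup G}
    (hA : gen g m = A) (hB : gen h m = ⊤) : Nonempty (A ≃* K) := by
  obtain ⟨e⟩ := equiv_of_tables hg hh hi hi' hf hf' hA hB
  exact ⟨e.trans Subgroup.topEquiv⟩

/-- a surjective homomorphism whose kernel is the kernel of the action -/
theorem surj_of_tables (hg : Reps px N g T m) (hh : Reps py N h T m) (hi : Inj px N) (hi' : Inj py N)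
    (hf' : ∀ b ∈ gen h m, (∀ c < N, b • py c = py c) → b = 1) {A : Subgroup G}
    (hA : gen g m = A) (hB : gen h m = ⊤) :
    ∃ φ : A →* K, Function.Surjective φ ∧ ∀ a : A, φ a = 1 ↔ ∀ c < N, (a : G) • px c = px c := by
  obtain ⟨φ, -, h2, h3, -⟩ := hom_of_tables hg hh hi hi' hf'
  subst hA
  exact ⟨φ, MonoidHom.range_eq_top.mp (h2.trans hB), h3⟩

/-- faithfulness from a full labelling -/
theorem faithful_of_surj [FaithfulSMul K Y] (hs : ∀ y, ∃ i < N, py i = y) (b : K) (hb : ∀ c < N, b • py c = py c) :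
    b = 1 := eq_of_smul_eq_smul (α := Y) fun y => by
  obtain ⟨i, hi, rfl⟩ := hs y
  rw [hb i hi, one_smul]

/-- the base points of a chain are among `σ c`, `c < n` -/
theorem mem_chainSt {pt : ℕ → X} {a : G} (t : List Lev) (h : ∀ l ∈ t, a • pt l.β = pt l.β) : a ∈ chainSt G pt t := by
  induction t with
  | nil => trivial
  | cons l t ih => exact ⟨h l List.mem_cons_self, ih fun l hl => h l (List.mem_cons_of_mem _ hl)⟩

theorem eq_one_of_chain {pt : ℕ → X} {M : ℕ} {t : List Lev} (hinj : Inj pt N) (hr : Reps pt N g T m)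
    (h : chainE T N M t m = 0) {L : Subgroup G} (hL : gen g m ≤ L) (hc : CardLE L (chainN t)) {a : G} (ha : a ∈ L)
    (hb : ∀ b ∈ t.map Lev.β, a • pt b = pt b) : a = 1 := by
  have h1 := chain_base hinj hr h hL hc
  rw [← Subgroup.mem_bot, ← h1]
  exact ⟨ha, mem_chainSt t fun l hl => hb _ (List.mem_map_of_mem hl)⟩

/-- error term for `Reps.restrict` -/
noncomputable def resE (T T' : ℕ → ℕ → ℕ) (σ : ℕ → ℕ) (N n m c : ℕ) : ℕ :=
  Nat.add (ltE (σ c) N) (lin (fun j => Nat.add (ltE (T' j c) n) (Nat.xor (T j (σ c)) (σ (T' j c)))) (nat_lit 0) m)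

theorem Reps.res (hr : Reps px N g T m) (σ : ℕ → ℕ) (n : ℕ) (T' : ℕ → ℕ → ℕ)
    (h : Nat.beq (upTo (resE T T' σ N n m) n) (nat_lit 0) = true) : Reps (fun c => px (σ c)) n g T' m :=
  hr.restrict fun c hc => by
    obtain ⟨h1, h2⟩ := add_eq_zero' (upTo_beq h c hc)
    exact ⟨ltE_zero h1, fun j hj => ⟨ltE_zero (add_eq_zero' (lin_zero h2 j hj)).1,
      xor_eq_zero' (add_eq_zero' (lin_zero h2 j hj)).2⟩⟩

/-- `ι` undoes `σ` -/
theorem Inj.res (hi : Inj px N) (σ ι : ℕ → ℕ) (n : ℕ)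
    (h : Nat.beq (upTo (fun c => Nat.add (ltE (σ c) N) (Nat.xor (ι (σ c)) c)) n) (nat_lit 0) = true) :
    Inj (fun c => px (σ c)) n := fun i hi' j hj e => by
  obtain ⟨a1, a2⟩ := add_eq_zero' (upTo_beq h i hi')
  obtain ⟨b1, b2⟩ := add_eq_zero' (upTo_beq h j hj)
  rw [← xor_eq_zero' a2, ← xor_eq_zero' b2, hi _ (ltE_zero a1) _ (ltE_zero b1) e]

end Cfsg.Agent.PC
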