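import Cfsg.Agent.Lib.PermCert.Model

/-! Proof logs for coset enumerations with coincidences.

Fact `k` is `F k = c * M + j + KM * d` (with `c * M + j < KM`), read `g j • pt c = pt d`; the letter `m` stands for
the identity.  `J k = rule + RB * refs` justifies it from earlier facts (`refs` are digits in base `B`). -/

set_option autoImplicit false

namespace Cfsg.Agent.PC

/-- follow the word `w` from `c` to `d` through the facts named by the digits of `s`, all below `k` -/
noncomputable def plTr (M KM B : ℕ) (F : ℕ → ℕ) (k d : ℕ) (w : List ℕ) : ℕ → ℕ → ℕ :=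
  List.rec (motive := fun _ => ℕ → ℕ → ℕ) (fun c _ => Nat.xor c d)
    (fun j _ ih c s => (fun r => (fun f =>
      Nat.add (Nat.add (ltE r k) (Nat.xor (Nat.mod f KM) (Nat.add (Nat.mul c M) j)))
        (ih (Nat.div f KM) (Nat.div s B))) (F r)) (Nat.mod s B)) w

/-- check of fact `k` -/
noncomputable def factE (M KM B RB m mh nr : ℕ) (F J D inv : ℕ → ℕ) (W : ℕ → List ℕ) (k : ℕ) : ℕ :=
  (fun f => (fun d => (fun cj => (fun c => (fun j => (fun s =>
    Nat.rec
      ((fun r => (fun f' => Nat.add (Nat.add (ltE r k) (Nat.sub j m))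
        (Nat.add (Nat.xor (Nat.mod f' KM) (Nat.add (Nat.mul d M) (inv j))) (Nat.xor (Nat.div f' KM) c))) (F r))
        (Nat.div s RB))
      (fun r _ => List.rec
        (Nat.mul (Nat.add (Nat.xor (D d) k) (ltE c d)) (Nat.add (Nat.add c d) (ltE j mh)))
        (fun h w _ => Nat.add (Nat.add (Nat.xor h j) (ltE r nr)) (plTr M KM B F k d w c (Nat.div s RB))) (W r))
      (Nat.mod s RB)) (J k)) (Nat.mod cj M)) (Nat.div cj M)) (Nat.mod f KM)) (Nat.div f KM)) (F k)

/-- drop the letter `m` -/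
def dropL (m : ℕ) (w : List ℕ) : List ℕ := w.filter fun j => !(Nat.beq j m)

/-- rule check: after dropping the identity letter, the rule is freely trivial (`c = 0`) or a rotation of a relator -/
noncomputable def rule2E (m : ℕ) (inv : ℕ → ℕ) (Rel : ℕ → List ℕ) (c : ℕ) (L : List ℕ) : ℕ :=
  List.rec (nat_lit 0) (fun h w _ => (fun u =>
    Nat.add (lettE (Nat.add m (nat_lit 1)) (h :: w))
      (Nat.rec (listE (red inv u) [])
        (fun c' _ => (fun L0 => (fun L1 => (fun s =>
          Nat.add (lettE m L0) (listE u (L1.drop s ++ L1.take s)))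
          (Nat.mod (Nat.div c' (nat_lit 2)) (nat_lit 1024)))
          (Nat.rec (motive := fun _ => List ℕ) L0 (fun _ _ => invw inv L0) (Nat.mod c' (nat_lit 2))))
          (Rel (Nat.div c' (nat_lit 2048)))) c)) (dropL m (inv h :: w))) L

section
universe u
variable {G : Type u} [Group G]

theorem ev_dropL (g : ℕ → G) (m : ℕ) (w : List ℕ) : ev (Function.update g m 1) w = ev g (dropL m w) := by
  induction w with
  | nil => rfl
  | cons j w ih =>
    by_cases h : j = m
    · subst h; simp [dropL, ih]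
    · have : Nat.beq j m = false := by
        rw [← Bool.not_eq_true]; exact fun h' => h (Nat.eq_of_beq_eq_true h')
      simp [dropL, this, ih, Function.update_of_ne h]

theorem invOK_update {g : ℕ → G} {inv : ℕ → ℕ} {m : ℕ} (hinv : InvOK g inv m) {inv' : ℕ → ℕ}
    (h1 : ∀ j < m, inv' j = inv j) (h2 : inv' m = m) : InvOK (Function.update g m 1) inv' (m + 1) := by
  intro j hj
  by_cases h : j = m
  · subst h; simp [h2]
  · have hj' : j < m := by omega
    obtain ⟨a, b⟩ := hinv j hj'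
    rw [h1 j hj', Function.update_of_ne h, Function.update_of_ne (by omega)]
    exact ⟨by omega, b⟩

theorem rule2E_ok {g : ℕ → G} {m : ℕ} {inv : ℕ → ℕ} (hinv : InvOK g inv m) (hm : inv m = m)
    {Rel : ℕ → List ℕ} (hRel : ∀ i, ev g (Rel i) = 1) {c : ℕ} {L : List ℕ} (h : rule2E m inv Rel c L = 0) :
    RuleOK (Function.update g m 1) (m + 1) L := by
  rintro a w rfl
  have hinv' := invOK_update hinv (fun _ _ => rfl) hm
  have h' : Nat.add (lettE (m + 1) (a :: w))
      (Nat.rec (motive := fun _ => ℕ) (listE (red inv (dropL m (inv a :: w))) [])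
        (fun c' _ => Nat.add (lettE m (Rel (c' / 2048))) (listE (dropL m (inv a :: w))
          ((Nat.rec (motive := fun _ => List ℕ) (Rel (c' / 2048)) (fun _ _ => invw inv (Rel (c' / 2048))) (c' % 2)).drop (c' / 2 % 1024) ++
           (Nat.rec (motive := fun _ => List ℕ) (Rel (c' / 2048)) (fun _ _ => invw inv (Rel (c' / 2048))) (c' % 2)).take (c' / 2 % 1024)))) c) = 0 := h
  obtain ⟨h1, h2⟩ := add_eq_zero' h'
  have h6 := lettE_zero h1
  have ha := h6 a List.mem_cons_self
  have hu : ∀ j ∈ dropL m (inv a :: w), j < m := by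
    intro j hj
    rw [dropL, List.mem_filter] at hj
    have e1 : j ≠ m := by
      rintro rfl
      simpa using hj.2
    have e2 : j < m + 1 := by
      rcases List.mem_cons.mp hj.1 with rfl | h3
      · exact (hinv' a ha).1
      · exact h6 j (List.mem_cons_of_mem _ h3)
    omega
  have key : ev g (dropL m (inv a :: w)) = 1 := by
    rcases c with _ | c'
    · have h3 := listE_zero (show listE (red inv (dropL m (inv a :: w))) [] = 0 from h2)
      rw [← ev_red hinv hu, h3]; rfl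
    · obtain ⟨h3, h4⟩ := add_eq_zero' h2
      have h5 := lettE_zero h3
      have h8 : ev g (Nat.rec (motive := fun _ => List ℕ) (Rel (c' / 2048))
          (fun _ _ => invw inv (Rel (c' / 2048))) (c' % 2)) = 1 := by
        rcases c' % 2 with _ | k
        · exact hRel _
        · show ev g (invw inv (Rel (c' / 2048))) = 1
          rw [ev_invw (fun j hj => (hinv j (h5 j hj)).2), hRel, inv_one]
      rw [listE_zero h4]
      exact ev_rotate h8 _
  rw [← ev_dropL, ev_cons, (hinv' a ha).2, mul_inv_eq_one] at key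
  exact ⟨key.symm, fun j hj => h6 j (List.mem_cons_of_mem _ hj)⟩

/-- labelled points of the log -/
noncomputable def plPt {X : Type*} [MulAction G X] (g : ℕ → G) (M KM : ℕ) (F D : ℕ → ℕ) (x0 : X) (d : ℕ) : X :=
  Nat.strongRec (motive := fun _ => X)
    (fun d ih => if h : F (D d) % KM / M < d then g (F (D d) % KM % M) • ih _ h else x0) d

theorem plPt_eq {X : Type*} [MulAction G X] (g : ℕ → G) (M KM : ℕ) (F D : ℕ → ℕ) (x0 : X) (d : ℕ) :
    plPt g M KM F D x0 d = if F (D d) % KM / M < d then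
      g (F (D d) % KM % M) • plPt g M KM F D x0 (F (D d) % KM / M) else x0 := by
  rw [plPt, Nat.strongRec_eq]
  split_ifs <;> rfl

theorem plTr_ok {X : Type*} [MulAction G X] {g : ℕ → G} {M KM B m k : ℕ} {F : ℕ → ℕ} {pt : ℕ → X}
    (hM : m < M) (ih : ∀ r < k, g (F r % KM % M) • pt (F r % KM / M) = pt (F r / KM)) (d : ℕ) (w : List ℕ) :
    (∀ i ∈ w, i < m + 1) → ∀ c s, plTr M KM B F k d w c s = 0 → ev g w • pt c = pt d := by
  induction w with
  | nil =>
    intro _ c s ht
    rw [xor_eq_zero' (show Nat.xor c d = 0 from ht)]; simp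
  | cons i w ihw =>
    intro hw c s ht
    have hi := hw i List.mem_cons_self
    have ht' : Nat.add (Nat.add (ltE (s % B) k) (Nat.xor (F (s % B) % KM) (c * M + i)))
        (plTr M KM B F k d w (F (s % B) / KM) (s / B)) = 0 := ht
    obtain ⟨t1, t2⟩ := add_eq_zero' ht'
    obtain ⟨t3, t4⟩ := add_eq_zero' t1
    have t5 := ih _ (ltE_zero t3)
    have e1 : (c * M + i) % M = i := by rw [Nat.mul_add_mod_of_lt (by omega)]
    have e2 : (c * M + i) / M = c := by
      rw [Nat.add_comm, Nat.add_mul_div_right _ _ (by omega), Nat.div_eq_of_lt (by omega), zero_add]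
    rw [xor_eq_zero' t4, e1, e2] at t5
    rw [ev_cons, mul_smul, t5]
    exact ihw (fun k hk => hw k (List.mem_cons_of_mem _ hk)) _ _ t2

theorem pl_facts {X : Type*} [MulAction G X] {g : ℕ → G} {M KM B RB m mh nr nf : ℕ} {F J D inv : ℕ → ℕ}
    {W : ℕ → List ℕ} (hinv : InvOK g inv (m + 1)) (hW : ∀ r < nr, RuleOK g (m + 1) (W r)) (hM : m < M)
    (h : ∀ k < nf, factE M KM B RB m mh nr F J D inv W k = 0) (x0 : X) (hx : ∀ j < mh, g j • x0 = x0) :
    ∃ pt : ℕ → X, pt 0 = x0 ∧ ∀ k < nf, g (F k % KM % M) • pt (F k % KM / M) = pt (F k / KM) := by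
  set pt := plPt g M KM F D x0 with hpt
  have h0 : pt 0 = x0 := by rw [hpt, plPt_eq, if_neg (Nat.not_lt_zero _)]
  refine ⟨pt, h0, fun k => ?_⟩
  induction k using Nat.strong_induction_on with
  | _ k ih =>
    intro hk
    have ih' : ∀ r < k, g (F r % KM % M) • pt (F r % KM / M) = pt (F r / KM) :=
      fun r hr => ih r hr (by omega)
    have h1 := h k hk
    change Nat.rec (motive := fun _ => ℕ) _ _ (J k % RB) = 0 at h1
    rcases hR : J k % RB with _ | r
    · rw [hR] at h1
      have h2 : Nat.add (Nat.add (ltE (J k / RB) k) (Nat.sub (F k % KM % M) m))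
        (Nat.add (Nat.xor (F (J k / RB) % KM) (F k / KM * M + inv (F k % KM % M)))
          (Nat.xor (F (J k / RB) / KM) (F k % KM / M))) = 0 := h1
      obtain ⟨h3, h4⟩ := add_eq_zero' h2
      obtain ⟨h5, h6⟩ := add_eq_zero' h3
      obtain ⟨h7, h8⟩ := add_eq_zero' h4
      have h9 := ih' _ (ltE_zero h5)
      obtain ⟨h10, h11⟩ := hinv (F k % KM % M) (Nat.lt_succ_of_le (sub_eq_zero' h6))
      have e1 : (F k / KM * M + inv (F k % KM % M)) % M = inv (F k % KM % M) := by
        rw [Nat.mul_add_mod_of_lt (by omega)]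
      have e2 : (F k / KM * M + inv (F k % KM % M)) / M = F k / KM := by
        rw [Nat.add_comm, Nat.add_mul_div_right _ _ (by omega), Nat.div_eq_of_lt (by omega), zero_add]
      rw [xor_eq_zero' h7, xor_eq_zero' h8, e1, e2, h11, inv_smul_eq_iff] at h9
      exact h9.symm
    · rw [hR] at h1
      change List.rec (motive := fun _ => ℕ) _ _ (W r) = 0 at h1
      rcases hWr : W r with _ | ⟨a, w⟩
      · rw [hWr] at h1
        have h2 : Nat.mul (Nat.add (Nat.xor (D (F k / KM)) k) (ltE (F k % KM / M) (F k / KM)))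
            (Nat.add (Nat.add (F k % KM / M) (F k / KM)) (ltE (F k % KM % M) mh)) = 0 := h1
        rcases mul_eq_zero' h2 with h3 | h3
        · obtain ⟨h4, h5⟩ := add_eq_zero' h3
          have h6 := xor_eq_zero' h4
          have h7 := ltE_zero h5
          rw [hpt, plPt_eq g M KM F D x0 (F k / KM), h6, if_pos h7]
        · obtain ⟨h4, h5⟩ := add_eq_zero' h3
          obtain ⟨h6, h7⟩ := add_eq_zero' h4
          rw [h7, h6, h0]
          exact hx _ (ltE_zero h5)
      · rw [hWr] at h1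
        have h2 : Nat.add (Nat.add (Nat.xor a (F k % KM % M)) (ltE r nr))
          (plTr M KM B F k (F k / KM) w (F k % KM / M) (J k / RB)) = 0 := h1
        obtain ⟨h3, h4⟩ := add_eq_zero' h2
        obtain ⟨h7, h8⟩ := add_eq_zero' h3
        obtain ⟨h11, h12⟩ := hW r (ltE_zero h8) a w hWr
        rw [← xor_eq_zero' h7, h11]
        exact plTr_ok hM ih' _ w h12 _ _ h4

/-- final table: `Z (i * m + j) = ref + B * target` -/
noncomputable def finE (n m M KM B nf : ℕ) (F σ Z : ℕ → ℕ) (i : ℕ) : ℕ :=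
  lin (fun j => (fun z => (fun r => (fun t => (fun f =>
    Nat.add (Nat.add (ltE r nf) (ltE t n))
      (Nat.add (Nat.xor (Nat.mod f KM) (Nat.add (Nat.mul (σ i) M) j)) (Nat.xor (Nat.div f KM) (σ t)))) (F r))
      (Nat.div z B)) (Nat.mod z B)) (Z (Nat.add (Nat.mul i m) j))) (nat_lit 0) m

/-- small side conditions of a proof log -/
noncomputable def plSideE (m mh M nr : ℕ) (inv inv' : ℕ → ℕ) (Rel : ℕ → List ℕ) (C : ℕ → ℕ) (W : ℕ → List ℕ) : ℕ :=
  Nat.add (Nat.add (Nat.add (ltE m M) (Nat.sub mh m))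
      (Nat.add (Nat.xor (inv' m) m) (upTo (fun j => Nat.xor (inv' j) (inv j)) m)))
    (upTo (fun r => rule2E m inv' Rel (C r) (W r)) nr)

theorem pl_facts' {X : Type*} [MulAction G X] {g : ℕ → G} {M KM B RB m mh nr nf : ℕ}
    {F J D inv inv' C : ℕ → ℕ} {W Rel : ℕ → List ℕ} (hinv : InvOK g inv m) (hRel : ∀ i, ev g (Rel i) = 1)
    (hs : plSideE m mh M nr inv inv' Rel C W = 0)
    (h : ∀ k < nf, factE M KM B RB m mh nr F J D inv' W k = 0) (x0 : X) (hx : ∀ j < mh, g j • x0 = x0) :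
    m < M ∧ ∃ pt : ℕ → X, pt 0 = x0 ∧
      ∀ k < nf, Function.update g m 1 (F k % KM % M) • pt (F k % KM / M) = pt (F k / KM) := by
  obtain ⟨h1, h2⟩ := add_eq_zero' hs
  obtain ⟨h3, h4⟩ := add_eq_zero' h1
  obtain ⟨h5, h6⟩ := add_eq_zero' h3
  obtain ⟨h7, h8⟩ := add_eq_zero' h4
  have h9 := fun j hj => xor_eq_zero' (upTo_zero h8 j hj)
  have h10 := xor_eq_zero' h7
  have hinv2 : InvOK g inv' m := fun j hj => by rw [h9 j hj]; exact hinv j hj
  have h11 := sub_eq_zero' h6
  refine ⟨ltE_zero h5, pl_facts (invOK_update hinv h9 h10)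
    (fun r hr => rule2E_ok hinv2 h10 hRel (upTo_zero h2 r hr)) (ltE_zero h5) h x0 fun j hj => ?_⟩
  rw [Function.update_of_ne (by omega)]
  exact hx j hj

/-- the enumeration closes on `n` cosets -/
def Closes (g : ℕ → G) (m mh n : ℕ) : Prop :=
  ∀ (X : Type u) [MulAction G X] (x0 : X), (∀ j < mh, g j • x0 = x0) →
    ∃ (pt : ℕ → X) (T : ℕ → ℕ → ℕ), pt 0 = x0 ∧ Reps pt n g T m

theorem pl_closes {g : ℕ → G} {M KM B RB m mh nr nf n : ℕ}
    {F J D inv inv' C σ Z : ℕ → ℕ} {W Rel : ℕ → List ℕ} (hinv : InvOK g inv m) (hRel : ∀ i, ev g (Rel i) = 1)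
    (hs : plSideE m mh M nr inv inv' Rel C W = 0)
    (h : ∀ k < nf, factE M KM B RB m mh nr F J D inv' W k = 0) (hσ : σ 0 = 0)
    (hf : ∀ i < n, finE n m M KM B nf F σ Z i = 0) : Closes g m mh n := by
  intro X _ x0 hx
  obtain ⟨hM, pt, h0, hp⟩ := pl_facts' hinv hRel hs h x0 hx
  refine ⟨fun i => pt (σ i), fun j i => Z (i * m + j) / B, by show pt (σ 0) = x0; rw [hσ, h0], fun j hj i hi => ?_⟩
  have h1 := hf i hi
  rw [finE, lin_eq, Finset.sum_eq_zero_iff] at h1
  have h2 := h1 j (by simpa using hj)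
  simp only [zero_add] at h2
  obtain ⟨h3, h4⟩ := add_eq_zero' h2
  obtain ⟨h5, h6⟩ := add_eq_zero' h3
  obtain ⟨h7, h8⟩ := add_eq_zero' h4
  refine ⟨ltE_zero h6, ?_⟩
  have h9 := hp _ (ltE_zero h5)
  have e0 : F ((Z (i * m + j)) % B) % KM = σ i * M + j := xor_eq_zero' h7
  have e1 : (σ i * M + j) % M = j := by rw [Nat.mul_add_mod_of_lt (by omega)]
  have e2 : (σ i * M + j) / M = σ i := by
    rw [Nat.add_comm, Nat.add_mul_div_right _ _ (by omega), Nat.div_eq_of_lt (by omega), zero_add]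
  have e3 : F ((Z (i * m + j)) % B) / KM = σ (Z (i * m + j) / B) := xor_eq_zero' h8
  change Function.update g m 1 (F ((Z (i * m + j)) % B) % KM % M) • pt (F ((Z (i * m + j)) % B) % KM / M) =
    pt (F ((Z (i * m + j)) % B) / KM) at h9
  rw [e0, e1, e2, e3, Function.update_of_ne (by omega)] at h9
  exact h9

theorem tc_closes {g : ℕ → G} {n m mh K nr : ℕ} {E R D inv C : ℕ → ℕ} {W Rel : ℕ → List ℕ}
    (hinv : InvOK g inv m) (hRel : ∀ i, ev g (Rel i) = 1)
    (hW : Nat.beq (upTo (fun r => ruleE m inv Rel (C r) (W r)) nr) (nat_lit 0) = true)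
    (h : ∀ c < n, rowE n m mh K nr E R D inv W c = 0) : Closes g m mh n := by
  intro X _ x0 hx
  obtain ⟨pt, h0, hr⟩ := tc_main hinv (rules_ok hinv hRel hW) h x0 hx
  exact ⟨pt, _, h0, hr⟩

theorem Closes.relIndex {g : ℕ → G} {n m mh : ℕ} {inv : ℕ → ℕ} (hc : Closes g m mh n)
    (hinv : InvOK g inv m) (hn : 0 < n) (H : Subgroup G) (hH : ∀ j < mh, g j ∈ H) :
    H.relIndex (gen g m) ≠ 0 ∧ H.relIndex (gen g m) ≤ n := by
  obtain ⟨pt, T, h0, hr⟩ := hc (G ⧸ H) ((1 : G) : G ⧸ H) (fun j hj => by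
    rw [MulAction.Quotient.smul_coe, smul_eq_mul, mul_one, eq_comm, QuotientGroup.eq]
    simpa using hH j hj)
  have hst : MulAction.stabilizer (gen g m) ((1 : G) : G ⧸ H) = H.subgroupOf (gen g m) := by
    ext x
    rw [MulAction.mem_stabilizer_iff, Subgroup.mem_subgroupOf]
    change (x : G) • ((1 : G) : G ⧸ H) = _ ↔ _
    rw [MulAction.Quotient.smul_coe, smul_eq_mul, mul_one, eq_comm, QuotientGroup.eq]
    simp
  have hsub : MulAction.orbit (gen g m) ((1 : G) : G ⧸ H) ⊆ pt '' Set.Iio n := by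
    rintro _ ⟨a, rfl⟩
    obtain ⟨d, hd, he⟩ := hr.smul_mem_of_inv hinv a a.2 0 hn
    exact ⟨d, hd, by rw [← he, h0]; rfl⟩
  have hfin : (pt '' Set.Iio n).Finite := (Set.finite_lt_nat n).image _
  rw [Subgroup.relIndex, ← hst, MulAction.index_stabilizer]
  constructor
  · exact Set.ncard_ne_zero_of_mem (MulAction.mem_orbit_self _) (hfin.subset hsub)
  · calc _ ≤ (pt '' Set.Iio n).ncard := Set.ncard_le_ncard hsub hfin
      _ ≤ (Set.Iio n).ncard := Set.ncard_image_le (Set.finite_lt_nat n)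
      _ = n := by rw [← Finset.coe_Iio, Set.ncard_coe_finset, Nat.card_Iio]

theorem Closes.card {g : ℕ → G} {n m mh k : ℕ} {inv : ℕ → ℕ} (hc : Closes g m mh n)
    (hinv : InvOK g inv m) (hn : 0 < n) (hk : CardLE (gen g mh) k) : CardLE (gen g m) (n * k) :=
  hk.of_relIndex (hc.relIndex hinv hn _ fun _ hj => mem_gen g hj)

/-- a word that the log traces from coset `0` back to coset `0` lies in the subgroup -/
theorem pl_word {g : ℕ → G} {M KM B RB m mh nr nf : ℕ}
    {F J D inv inv' C : ℕ → ℕ} {W Rel : ℕ → List ℕ} (hinv : InvOK g inv m) (hRel : ∀ i, ev g (Rel i) = 1)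
    (hs : plSideE m mh M nr inv inv' Rel C W = 0)
    (h : ∀ k < nf, factE M KM B RB m mh nr F J D inv' W k = 0) {w : List ℕ} {s : ℕ}
    (hw : Nat.add (lettE (Nat.add m (nat_lit 1)) w) (plTr M KM B F nf (nat_lit 0) w (nat_lit 0) s) = 0) :
    ev g (dropL m w) ∈ gen g mh := by
  obtain ⟨hM, pt, h0, hp⟩ := pl_facts' hinv hRel hs h ((1 : G) : G ⧸ gen g mh) (fun j hj => by
    rw [MulAction.Quotient.smul_coe, smul_eq_mul, mul_one, eq_comm, QuotientGroup.eq]
    simpa using mem_gen g hj)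
  obtain ⟨h1, h2⟩ := add_eq_zero' hw
  have h3 := plTr_ok hM hp 0 w (lettE_zero h1) 0 s h2
  rw [h0, ev_dropL, MulAction.Quotient.smul_coe, smul_eq_mul, mul_one, eq_comm, QuotientGroup.eq] at h3
  simpa using h3

/-- variable-width entries: chunk `k / 64` of the tree `t`; `p k = offset * 4096 + width` -/
noncomputable def getV (t : TN) (p : ℕ → ℕ) (k : ℕ) : ℕ :=
  (fun q => Nat.mod (Nat.shiftRight (Nat.rec (nat_lit 0) (fun m _ => t.get m)
    (Nat.add (Nat.shiftRight k (nat_lit 6)) (nat_lit 1))) (Nat.shiftRight q (nat_lit 12)))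
    (Nat.shiftLeft (nat_lit 1) (Nat.land q (nat_lit 4095)))) (p k)

end

end Cfsg.Agent.PC
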