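import Cfsg.Agent.Lib.PermCert.Model

/-! Upper bounds from invariant sets, membership by words, transport along conjugation. -/

set_option autoImplicit false

namespace Cfsg.Agent.PC

open MulAction

section
variable {G : Type*} [Group G] {X : Type*} [MulAction G X]

theorem cardLE_of_card {L : Subgroup G} [Finite L] {k : ℕ} (h : Nat.card L ≤ k) : CardLE L k := ⟨‹_›, h⟩

theorem CardLE.of_le {H L : Subgroup G} {k : ℕ} (h : CardLE L k) (hl : H ≤ L) : CardLE H k := by
  obtain ⟨h1, h2⟩ := h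
  exact ⟨Finite.of_injective _ (Subgroup.inclusion_injective hl), (Subgroup.card_le_of_le hl).trans h2⟩

theorem cardLE_step {L : Subgroup G} [Finite L] (x : X) (s : Finset X) (h : ∀ a ∈ L, a • x ∈ s) {k : ℕ}
    (hk : CardLE (L ⊓ stabilizer G x) k) : CardLE L (s.card * k) := by
  refine ⟨‹_›, ?_⟩
  rw [card_eq_orbit_mul L x]
  refine Nat.mul_le_mul ?_ hk.2
  rw [← Set.ncard_coe_finset]
  refine Set.ncard_le_ncard ?_ s.finite_toSet
  rintro _ ⟨a, rfl⟩
  exact h a a.2

theorem cardLE_of_eq_one {L : Subgroup G} (h : ∀ a ∈ L, a = 1) : CardLE L 1 := by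
  have : L = ⊥ := (Subgroup.eq_bot_iff_forall L).mpr h
  rw [this]; exact cardLE_bot

theorem step_stab {L : Subgroup G} {x : X} {n k : ℕ} (h : CardLE L (n * k)) (hn : 0 < n)
    (ho : n ≤ (orbit L x).ncard) : CardLE (L ⊓ stabilizer G x) k := by
  have h1 := h.of_le (inf_le_left : L ⊓ stabilizer G x ≤ L)
  refine ⟨h1.1, ?_⟩
  have h2 := h.2
  rw [card_eq_orbit_mul L x] at h2
  exact Nat.le_of_mul_le_mul_left ((Nat.mul_le_mul_right _ ho).trans h2) hn

theorem orbit_eq_of {L : Subgroup G} {x : X} {S : Set X} (h1 : ∀ a ∈ L, a • x ∈ S)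
    (h2 : ∀ y ∈ S, ∃ a ∈ L, a • x = y) : orbit L x = S := by
  ext y
  constructor
  · rintro ⟨a, rfl⟩; exact h1 a a.2
  · intro hy
    obtain ⟨a, ha, e⟩ := h2 y hy
    exact ⟨⟨a, ha⟩, e⟩

theorem card_inf_stab {L : Subgroup G} {x : X} {n k : ℕ} (hL : Nat.card L = n * k) (hn : 0 < n)
    (ho : (orbit L x).ncard = n) : Nat.card ↥(L ⊓ stabilizer G x) = k := by
  rw [card_eq_orbit_mul L x, ho] at hL
  exact Nat.eq_of_mul_eq_mul_left hn hL

theorem card_stab {x : X} {n k : ℕ} (hL : Nat.card G = n * k) (hn : 0 < n)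
    (ho : (orbit G x).ncard = n) : Nat.card ↥(stabilizer G x) = k := by
  have h := card_inf_stab (L := (⊤ : Subgroup G)) (x := x) (n := n) (k := k) (by rwa [Subgroup.card_top]) hn (by
    rw [← ho]; congr 1
    exact orbit_eq_of (fun a _ => mem_orbit x a) (fun y ⟨a, e⟩ => ⟨a, trivial, e⟩))
  rwa [top_inf_eq] at h

theorem orbit_top (x : X) : orbit (⊤ : Subgroup G) x = orbit G x :=
  orbit_eq_of (fun a _ => mem_orbit x a) (fun _ ⟨a, e⟩ => ⟨a, trivial, e⟩)

variable {pt : ℕ → X} {N : ℕ} {g : ℕ → G} {T : ℕ → ℕ → ℕ} {m : ℕ}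

/-- letters that agree with words in earlier letters lie in the group generated by the first letters -/
theorem mem_of_slpE [FaithfulSMul G X] (hs : ∀ x, ∃ i < N, pt i = x) (hr : Reps pt N g T m) {W : ℕ → List ℕ}
    {m0 : ℕ} {H : Subgroup G} (h0 : ∀ j < m0, g j ∈ H)
    (hW : ∀ j, m0 ≤ j → j < m → slpE T W N j = 0) : ∀ j < m, g j ∈ H := by
  intro j
  induction j using Nat.strong_induction_on with
  | _ j ih =>
    intro hj
    by_cases h : j < m0
    · exact h0 j h
    · obtain ⟨h1, h2⟩ := add_eq_zero' (hW j (by omega) hj)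
      have h3 := lettE_zero h1
      have h4 : ev g (W j) = g j := Rep.eq_of_faithful hs (hr.ev fun i hi => (h3 i hi).trans hj) (hr j hj)
        fun c hc => xor_eq_zero' (upTo_zero h2 c hc)
      rw [← h4]
      exact ev_mem fun i hi => ih i (h3 i hi) ((h3 i hi).trans hj)

/-- restrict tables to a subfamily of the labelled points -/
theorem Reps.restrict (hr : Reps pt N g T m) {σ : ℕ → ℕ} {n : ℕ} {T' : ℕ → ℕ → ℕ}
    (h : ∀ c < n, σ c < N ∧ ∀ j < m, T' j c < n ∧ T j (σ c) = σ (T' j c)) :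
    Reps (fun c => pt (σ c)) n g T' m := fun j hj c hc => by
  obtain ⟨h1, h2⟩ := h c hc
  obtain ⟨h3, h4⟩ := h2 j hj
  exact ⟨h3, by rw [(hr j hj _ h1).2, h4]⟩

/-- letters fixing a labelled point -/
noncomputable def fixesE (T : ℕ → ℕ → ℕ) (m c : ℕ) : ℕ := lin (fun j => Nat.xor (T j c) c) (nat_lit 0) m

theorem lin_zero {f : ℕ → ℕ} {n : ℕ} (h : lin f (nat_lit 0) n = 0) : ∀ i < n, f i = 0 := by
  intro i hi
  rw [lin_eq, Finset.sum_eq_zero_iff] at h
  simpa using h i (by simpa using hi)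

theorem gen_le_stab (hr : Reps pt N g T m) {c : ℕ} (hc : c < N)
    (h : Nat.beq (fixesE T m c) (nat_lit 0) = true) : gen g m ≤ stabilizer G (pt c) :=
  gen_le fun j hj => (hr j hj).smul_eq hc (xor_eq_zero' (lin_zero (Nat.eq_of_beq_eq_true h) j hj))

/-- the orbit of a labelled point stays among the labelled points -/
theorem Reps.orbit_sub (hr : Reps pt N g T m) (hinj : Inj pt N) {c : ℕ} (hc : c < N) {a : G} (ha : a ∈ gen g m) :
    ∃ d < N, a • pt c = pt d := by
  obtain ⟨d, hd, -, e⟩ := hr.smul_mem hinj (P := fun _ => True) (fun _ _ _ _ _ => trivial) a ha c hc trivial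
  exact ⟨d, hd, e⟩

theorem Inj.of_key {Y : Type*} {pt : ℕ → Y} {N : ℕ} (key : ℕ → ℕ)
    (h1 : ∀ i < N, ∀ j < N, pt i = pt j → key i = key j) (h2 : ∀ i, i + 1 < N → key i < key (i + 1)) :
    Inj pt N := by
  have h3 : ∀ d i, i + d + 1 < N → key i < key (i + d + 1) := by
    intro d
    induction d with
    | zero => exact fun i hi => h2 i hi
    | succ d ih => exact fun i hi => (ih i (by omega)).trans (h2 _ (by omega))
  intro i hi j hj h
  have := h1 i hi j hj h
  rcases lt_trichotomy i j with h | h | h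
  · have := h3 (j - i - 1) i (by omega)
    rw [show i + (j - i - 1) + 1 = j by omega] at this; omega
  · exact h
  · have := h3 (i - j - 1) j (by omega)
    rw [show j + (i - j - 1) + 1 = i by omega] at this; omega

/-! ### transport along conjugation -/

theorem conj_mem_stab (h a : G) (x : X) : h * a * h⁻¹ ∈ stabilizer G (h • x) ↔ a ∈ stabilizer G x := by
  simp [mem_stabilizer_iff, mul_smul]

/-- conjugate subgroups are isomorphic -/
def conjEquiv (h : G) {H K : Subgroup G} (e : ∀ a, h * a * h⁻¹ ∈ K ↔ a ∈ H) : H ≃* K where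
  toFun a := ⟨h * a * h⁻¹, (e a).mpr a.2⟩
  invFun b := ⟨h⁻¹ * b * h, (e _).mp (by simpa [mul_assoc] using b.2)⟩
  left_inv a := by ext; simp [mul_assoc]
  right_inv b := by ext; simp [mul_assoc]
  map_mul' a b := by ext; simp [mul_assoc]

theorem eq_map_conj (h : G) {H K : Subgroup G} (e : ∀ a, h * a * h⁻¹ ∈ K ↔ a ∈ H) :
    K = H.map (MulAut.conj h).toMonoidHom := by
  ext b
  simp only [Subgroup.mem_map, MulEquiv.coe_toMonoidHom, MulAut.conj_apply]
  constructor
  · intro hb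
    exact ⟨h⁻¹ * b * h, (e _).mp (by simpa [mul_assoc] using hb), by simp [mul_assoc]⟩
  · rintro ⟨a, ha, rfl⟩; exact (e a).mpr ha

theorem isCoatom_conj (h : G) {H K : Subgroup G} (e : ∀ a, h * a * h⁻¹ ∈ K ↔ a ∈ H) (hH : IsCoatom H) :
    IsCoatom K := by
  rw [eq_map_conj h e]
  exact ((MulAut.conj h).mapSubgroup.isCoatom_iff H).mpr hH

theorem orbit_conj (h : G) {H K : Subgroup G} (e : ∀ a, h * a * h⁻¹ ∈ K ↔ a ∈ H) (x : X) :
    orbit K (h • x) = (h • ·) '' orbit H x := by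
  apply orbit_eq_of
  · intro b hb
    refine ⟨(h⁻¹ * b * h) • x, ⟨⟨h⁻¹ * b * h, (e _).mp (by simpa [mul_assoc] using hb)⟩, rfl⟩, ?_⟩
    simp [mul_smul]
  · rintro _ ⟨_, ⟨a, rfl⟩, rfl⟩
    exact ⟨h * a * h⁻¹, (e a).mpr a.2, by simp [mul_smul, Subgroup.smul_def]⟩

theorem ncard_orbit_conj (h : G) {H K : Subgroup G} (e : ∀ a, h * a * h⁻¹ ∈ K ↔ a ∈ H) (x : X) :
    (orbit K (h • x)).ncard = (orbit H x).ncard := by
  rw [orbit_conj h e, Set.ncard_image_of_injective _ (MulAction.injective h)]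

theorem ncard_transport (h : G) {S S' : Set X} (e : ∀ y, h • y ∈ S' ↔ y ∈ S) : S'.ncard = S.ncard := by
  rw [← Set.ncard_image_of_injective S (MulAction.injective h)]
  congr 1
  ext y
  constructor
  · intro hy
    exact ⟨h⁻¹ • y, (e _).mp (by simpa using hy), by simp⟩
  · rintro ⟨z, hz, rfl⟩; exact (e z).mpr hz

theorem image_transport (h : G) {S S' : Set X} (e : ∀ y, h • y ∈ S' ↔ y ∈ S) : S' = (h • ·) '' S := by
  ext y
  constructor
  · intro hy
    exact ⟨h⁻¹ • y, (e _).mp (by simpa using hy), by simp⟩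
  · rintro ⟨z, hz, rfl⟩; exact (e z).mpr hz

/-- every point is a translate -/
theorem exists_smul (h : G) (y : X) : ∃ y', y = h • y' := ⟨h⁻¹ • y, by simp⟩

theorem conj_smul_smul (h a : G) (x : X) : (h * a * h⁻¹) • h • x = h • a • x := by simp [mul_smul]

end

end Cfsg.Agent.PC
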