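import Mathlib.GroupTheory.Perm.Cycle.Type
import Cfsg.Agent.Lib.PermCert.More

/-! Families inside a subgroup, an abstract maximality test, simplicity from double transitivity, counting
arguments for transitivity. -/

set_option autoImplicit false

namespace Cfsg.Agent.PC

open MulAction

section
variable {G : Type*} [Group G] {X : Type*} [MulAction G X]

/-- maximality of a stabilizer from the sizes `s k`, `k ∈ K`, of classes fused by the stabilizer -/
theorem isCoatom_abs {x : X} (O : X → ℕ) (K : Finset ℕ) (s : ℕ → ℕ) {S : Set X} (hfin : S.Finite)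
    (horb : orbit G x = S) (hO : ∀ y ∈ S, O y ∈ K)
    (hconj : ∀ y ∈ S, ∀ z ∈ S, O y = O z → ∃ a ∈ stabilizer G x, a • y = z)
    (hs : ∀ k ∈ K, {y | y ∈ S ∧ O y = k}.ncard = s k) (h1 : 1 < ∑ k ∈ K, s k)
    (ht : ∀ A ∈ K.powerset, O x ∈ A → (∑ k ∈ A, s k) ∣ (∑ k ∈ K, s k) → A = {O x} ∨ A = K) :
    IsCoatom (stabilizer G x) := by
  classical
  have hx : x ∈ S := horb ▸ mem_orbit_self x
  have hsum : ∀ A ⊆ K, {y | y ∈ S ∧ O y ∈ A}.ncard = ∑ k ∈ A, s k := by
    intro A hA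
    have e : {y | y ∈ S ∧ O y ∈ A} = ↑(hfin.toFinset.filter fun y => O y ∈ A) := by ext; simp
    rw [e, Set.ncard_coe_finset, Finset.card_eq_sum_card_fiberwise (f := O) (t := A)
      (s := hfin.toFinset.filter fun y => O y ∈ A) (fun d hd => (Finset.mem_filter.mp hd).2)]
    refine Finset.sum_congr rfl fun k hk => ?_
    rw [← hs k (hA hk), ← Set.ncard_coe_finset]
    congr 1
    ext y
    simp only [Finset.coe_filter, Finset.mem_filter, Set.Finite.mem_toFinset, Set.mem_setOf_eq]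
    constructor
    · rintro ⟨⟨h1, -⟩, h2⟩; exact ⟨h1, h2⟩
    · rintro ⟨h1, rfl⟩; exact ⟨⟨h1, hk⟩, rfl⟩
  have hidx : (stabilizer G x).index = ∑ k ∈ K, s k := by
    rw [index_stabilizer, horb, ← hsum K le_rfl]
    congr 1; ext y; exact ⟨fun h => ⟨h, hO y h⟩, fun h => h.1⟩
  refine ⟨fun h => by rw [h, Subgroup.index_top] at hidx; omega, fun L hL => ?_⟩
  let A := K.filter fun k => ∃ y ∈ S, O y = k ∧ y ∈ orbit L x
  have hKo : orbit L x = {y | y ∈ S ∧ O y ∈ A} := by
    ext y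
    constructor
    · rintro ⟨a, rfl⟩
      have : (a : G) • x ∈ S := horb ▸ mem_orbit _ _
      exact ⟨this, Finset.mem_filter.mpr ⟨hO _ this, _, this, rfl, ⟨a, rfl⟩⟩⟩
    · rintro ⟨hy, h1⟩
      obtain ⟨-, c, hc, h2, ⟨a, h3⟩⟩ := Finset.mem_filter.mp h1
      obtain ⟨b, hb, h4⟩ := hconj c hc y hy h2
      refine ⟨⟨b, hL.le hb⟩ * a, ?_⟩
      simp only at h3 ⊢
      rw [mul_smul, h3]; exact h4
  have hrel : (orbit L x).ncard = (stabilizer G x).relIndex L := by
    rw [← index_stabilizer]; rfl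
  have hdvd : (∑ k ∈ A, s k) ∣ ∑ k ∈ K, s k := by
    rw [← hsum A (Finset.filter_subset _ _), ← hKo, hrel, ← hidx, ← Subgroup.relIndex_mul_index hL.le]
    exact dvd_mul_right _ _
  have h0 : O x ∈ A := Finset.mem_filter.mpr ⟨hO x hx, x, hx, rfl, mem_orbit_self _⟩
  rcases ht A (Finset.mem_powerset.mpr (Finset.filter_subset _ _)) h0 hdvd with h1 | h1
  · exfalso
    apply hL.not_ge
    intro a ha
    have : a • x ∈ orbit L x := ⟨⟨a, ha⟩, rfl⟩
    rw [hKo, h1] at this
    obtain ⟨b, hb, h4⟩ := hconj x hx _ this.1 (Finset.mem_singleton.mp this.2).symm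
    rw [mem_stabilizer_iff] at hb ⊢
    rw [← h4, hb]
  · rw [eq_top_iff]
    intro a _
    have : a • x ∈ orbit L x := by
      have h2 : a • x ∈ S := horb ▸ mem_orbit _ _
      rw [hKo, h1]
      exact ⟨h2, hO _ h2⟩
    obtain ⟨b, hb⟩ := this
    have h3 : (b : G)⁻¹ * a ∈ stabilizer G x := by
      rw [mem_stabilizer_iff, mul_smul, inv_smul_eq_iff]; exact hb.symm
    have := L.mul_mem b.2 (hL.le h3)
    simpa using this

/-- labelled version: the orbit of `pt c0` is the union of the nonzero classes `1..r` -/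
theorem isCoatom_lab {pt : ℕ → X} {N c0 r : ℕ} {O : ℕ → ℕ} (s : ℕ → ℕ) (hinj : Inj pt N) (hc0 : c0 < N)
    (horb : orbit G (pt c0) = pt '' {d | d < N ∧ O d ≠ 0}) (hO : ∀ c < N, O c ≤ r)
    (hconj : ∀ c < N, ∀ d < N, O c ≠ 0 → O c = O d → ∃ a ∈ stabilizer G (pt c0), a • pt c = pt d)
    (hs : ∀ k, 1 ≤ k → k ≤ r → cnt O k N = s k) (h1 : 1 < ∑ k ∈ Finset.Icc 1 r, s k) {k0 : ℕ} (hk0 : O c0 = k0)
    (ht : ∀ A ∈ (Finset.Icc 1 r).powerset, k0 ∈ A → (∑ k ∈ A, s k) ∣ (∑ k ∈ Finset.Icc 1 r, s k) →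
      A = {k0} ∨ A = Finset.Icc 1 r) : IsCoatom (stabilizer G (pt c0)) := by
  classical
  let O' : X → ℕ := fun y => if h : ∃ d < N, pt d = y then O h.choose else 0
  have hO' : ∀ d < N, O' (pt d) = O d := by
    intro d hd
    have h : ∃ d' < N, pt d' = pt d := ⟨d, hd, rfl⟩
    simp only [O', dif_pos h]
    rw [hinj _ h.choose_spec.1 d hd h.choose_spec.2]
  refine isCoatom_abs O' (Finset.Icc 1 r) s (((Set.finite_lt_nat N).subset fun d hd => hd.1).image pt) horb
    ?_ ?_ ?_ h1 (by rwa [hO' c0 hc0, hk0])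
  · rintro _ ⟨d, ⟨hd, h0⟩, rfl⟩
    rw [hO' d hd, Finset.mem_Icc]; exact ⟨by omega, hO d hd⟩
  · rintro _ ⟨c, ⟨hc, h0⟩, rfl⟩ _ ⟨d, ⟨hd, -⟩, rfl⟩ e
    rw [hO' c hc, hO' d hd] at e
    exact hconj c hc d hd h0 e
  · intro k hk
    rw [Finset.mem_Icc] at hk
    rw [← hs k hk.1 hk.2, ← hinj.ncard_class]
    congr 1
    ext y
    constructor
    · rintro ⟨⟨d, ⟨hd, -⟩, rfl⟩, e⟩; exact ⟨d, ⟨hd, by rwa [hO' d hd] at e⟩, rfl⟩
    · rintro ⟨d, ⟨hd, e⟩, rfl⟩; exact ⟨⟨d, ⟨hd, by omega⟩, rfl⟩, by rw [hO' d hd, e]⟩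

/-- a group doubly transitive on an orbit has maximal point stabilizers -/
theorem isCoatom_of_two_trans {x : X} {S : Set X} (hfin : S.Finite) (horb : orbit G x = S) (h1 : 1 < S.ncard)
    (h2 : ∀ y ∈ S, ∀ z ∈ S, y ≠ x → z ≠ x → ∃ a ∈ stabilizer G x, a • y = z) : IsCoatom (stabilizer G x) := by
  have hidx : (stabilizer G x).index = S.ncard := by rw [index_stabilizer, horb]
  refine ⟨fun h => by rw [h, Subgroup.index_top] at hidx; omega, fun L hL => ?_⟩
  obtain ⟨b, hb, hb'⟩ := SetLike.exists_of_lt hL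
  rw [eq_top_iff]
  intro a _
  by_cases ha : a ∈ stabilizer G x
  · exact hL.le ha
  obtain ⟨c, hc, e⟩ := h2 (b • x) (horb ▸ mem_orbit _ _) (a • x) (horb ▸ mem_orbit _ _) hb' ha
  have h3 : (c * b)⁻¹ * a ∈ stabilizer G x := by
    rw [mem_stabilizer_iff, mul_smul, inv_smul_eq_iff, mul_smul, e]
  have := L.mul_mem (L.mul_mem (hL.le hc) hb) (hL.le h3)
  rwa [mul_inv_cancel_left] at this

/-- A group faithful and doubly transitive on an orbit whose length has two prime divisors is simple when the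
point stabilizer is. -/
theorem simple_of_two_trans [Finite G] {x : X} {S : Set X} (horb : orbit G x = S)
    (hf : ∀ a : G, (∀ y ∈ S, a • y = y) → a = 1)
    (h2 : ∀ y ∈ S, ∀ z ∈ S, y ≠ x → z ≠ x → ∃ a ∈ stabilizer G x, a • y = z)
    {p q : ℕ} (hp : p.Prime) (hq : q.Prime) (hpq : p ≠ q) (hpd : p ∣ S.ncard) (hqd : q ∣ S.ncard)
    (hs : IsSimpleGroup (stabilizer G x)) : IsSimpleGroup G := by
  have hfin : S.Finite := horb ▸ Set.finite_range _
  have hpos : 0 < S.ncard := (Set.ncard_pos hfin).mpr ⟨x, horb ▸ mem_orbit_self x⟩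
  have h1 : 1 < S.ncard := lt_of_lt_of_le hp.one_lt (Nat.le_of_dvd hpos hpd)
  have hH := isCoatom_of_two_trans hfin horb h1 h2
  have hcore := normalCore_stabilizer_eq_bot (G := G) (x := x) (by rwa [horb])
  have : Nontrivial G := by
    by_contra h
    rw [not_nontrivial_iff_subsingleton] at h
    exact hH.1 (Subsingleton.elim _ _)
  refine ⟨fun N hN => ?_⟩
  by_cases h0 : N = ⊥
  · exact Or.inl h0
  right
  have h3 : ¬ N ≤ stabilizer G x := fun h => h0 (le_bot_iff.mp (hcore ▸ Subgroup.normal_le_normalCore.mpr h))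
  have h4 := sup_eq_top_of_coatom hH h3
  rcases hs.eq_bot_or_eq_top_of_normal (N.subgroupOf (stabilizer G x)) inferInstance with h5 | h5
  · exfalso
    have h6 : ∀ a ∈ N, a • x = x → a = 1 := by
      intro a ha e
      have : (⟨a, e⟩ : stabilizer G x) ∈ N.subgroupOf (stabilizer G x) := ha
      rw [h5, Subgroup.mem_bot] at this
      exact congrArg Subtype.val this
    have h7 : Nat.card N = S.ncard := by
      rw [card_eq_orbit_mul N x]
      have e1 : N ⊓ stabilizer G x = ⊥ := (Subgroup.eq_bot_iff_forall _).mpr fun a ha => h6 a ha.1 ha.2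
      have e2 : orbit N x = S := by
        refine orbit_eq_of (fun a _ => horb ▸ mem_orbit _ _) fun y hy => ?_
        rw [← horb] at hy
        obtain ⟨a, rfl⟩ := hy
        have : a ∈ N ⊔ stabilizer G x := by rw [sup_comm, h4]; trivial
        rw [← SetLike.mem_coe, Subgroup.normal_mul] at this
        obtain ⟨n, hn, h, hh, rfl⟩ := this
        exact ⟨n, hn, by simp only [mul_smul]; rw [mem_stabilizer_iff.mp hh]⟩
      rw [e1, e2]; simp
    have := Fact.mk hp
    have := Fact.mk hq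
    obtain ⟨a, ha⟩ := exists_prime_orderOf_dvd_card' (G := N) p (h7 ▸ hpd)
    obtain ⟨b, hb⟩ := exists_prime_orderOf_dvd_card' (G := N) q (h7 ▸ hqd)
    have na : (a : G) • x ≠ x := fun e => by
      have : a = 1 := Subtype.ext (h6 a a.2 e)
      rw [this, orderOf_one] at ha; exact hp.one_lt.ne ha
    have nb : (b : G) • x ≠ x := fun e => by
      have : b = 1 := Subtype.ext (h6 b b.2 e)
      rw [this, orderOf_one] at hb; exact hq.one_lt.ne hb
    obtain ⟨c, hc, e⟩ := h2 _ (horb ▸ mem_orbit _ _) _ (horb ▸ mem_orbit _ _) na nb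
    have h8 : (b : G)⁻¹ * (c * a * c⁻¹) = 1 := by
      apply h6 _ (N.mul_mem (N.inv_mem b.2) (hN.conj_mem _ a.2 c))
      rw [mul_smul, inv_smul_eq_iff, mul_smul, mul_smul, mem_stabilizer_iff.mp ((stabilizer G x).inv_mem hc), e]
    have h9 : orderOf (b : G) = orderOf (a : G) := by
      rw [inv_mul_eq_one] at h8
      rw [h8]
      exact (MulAut.conj c).orderOf_eq (a : G)
    rw [Subgroup.orderOf_coe, Subgroup.orderOf_coe, ha, hb] at h9
    exact hpq h9.symm
  · rw [Subgroup.subgroupOf_eq_top] at h5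
    rw [← h4]; exact (sup_eq_right.mpr h5).symm

/-- transitivity by counting -/
theorem orbit_eq_of_count {L : Subgroup G} [Finite L] {x : X} {S : Set X} (hfin : S.Finite)
    (h1 : ∀ a ∈ L, a • x ∈ S) {k : ℕ} (hk : CardLE (L ⊓ stabilizer G x) k) (h : S.ncard * k ≤ Nat.card L) :
    orbit L x = S := by
  refine Set.eq_of_subset_of_ncard_le ?_ ?_ hfin
  · rintro _ ⟨a, rfl⟩; exact h1 a a.2
  · rw [card_eq_orbit_mul L x] at h
    have := hk.1
    have hpos : 0 < k := lt_of_lt_of_le Nat.card_pos hk.2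
    exact Nat.le_of_mul_le_mul_right (h.trans (Nat.mul_le_mul_left _ hk.2)) hpos

theorem exists_of_orbit {L : Subgroup G} {x y z : X} (hy : y ∈ orbit L x) (hz : z ∈ orbit L x) :
    ∃ a ∈ L, a • y = z := by
  obtain ⟨a, rfl⟩ := hy
  obtain ⟨b, rfl⟩ := hz
  exact ⟨(b * a⁻¹ : L), (b * a⁻¹).2, by simp [mul_smul, Subgroup.smul_def]⟩

open Classical in
/-- the family viewed inside a subgroup -/
noncomputable def sub (L : Subgroup G) (g : ℕ → G) (j : ℕ) : L := if h : g j ∈ L then ⟨g j, h⟩ else 1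

theorem coe_sub {L : Subgroup G} {g : ℕ → G} {j : ℕ} (h : g j ∈ L) : (sub L g j : G) = g j := by
  rw [sub, dif_pos h]

variable {pt : ℕ → X} {N : ℕ} {g : ℕ → G} {T : ℕ → ℕ → ℕ} {m : ℕ}

theorem Reps.sub {L : Subgroup G} (hr : Reps pt N g T m) (h : gen g m ≤ L) : Reps pt N (sub L g) T m :=
  fun j hj c hc => ⟨(hr j hj c hc).1, by
    rw [Subgroup.smul_def, coe_sub (h (mem_gen g hj))]; exact (hr j hj c hc).2⟩

theorem map_gen_sub {L : Subgroup G} (h : gen g m ≤ L) : (gen (sub L g) m).map L.subtype = gen g m := by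
  rw [gen_map]; exact gen_congr fun j hj => coe_sub (h (mem_gen g hj))

theorem gen_sub {L : Subgroup G} (h : gen g m ≤ L) : gen (sub L g) m = (gen g m).subgroupOf L := by
  rw [← map_gen_sub h, Subgroup.subgroupOf, Subgroup.comap_map_eq_self_of_injective L.subtype_injective]

theorem gen_sub_top {L : Subgroup G} (h : gen g m = L) : gen (sub L g) m = ⊤ := by
  rw [gen_sub h.le, h, Subgroup.subgroupOf_self]

theorem InvOK.sub {L : Subgroup G} {inv : ℕ → ℕ} (hi : InvOK g inv m) (h : gen g m ≤ L) :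
    InvOK (sub L g) inv m := fun j hj => ⟨(hi j hj).1, Subtype.ext (by
  rw [coe_sub (h (mem_gen g (hi j hj).1)), Subgroup.coe_inv, coe_sub (h (mem_gen g hj)), (hi j hj).2])⟩

theorem coe_ev_sub {L : Subgroup G} (h : gen g m ≤ L) {w : List ℕ} (hw : ∀ j ∈ w, j < m) :
    ((ev (sub L g) w : L) : G) = ev g w := by
  rw [← Subgroup.subtype_apply, ev_map]
  exact ev_congr fun j hj => coe_sub (h (mem_gen g (hw j hj)))

/-- inverse letters checked on the points -/
theorem invOK_of [FaithfulSMul G X] (hs : ∀ x, ∃ i < N, pt i = x) (hr : Reps pt N g T m) {inv : ℕ → ℕ}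
    (hi : invlE inv m = 0) (h : ∀ c < N, permE T inv N m c = 0) : InvOK g inv m := by
  intro j hj
  have h1 : inv j < m := ltE_zero (add_eq_zero' (upTo_zero hi j hj)).1
  refine ⟨h1, eq_inv_of_mul_eq_one_left ?_⟩
  exact Rep.eq_of_faithful hs ((hr _ h1).mul (hr j hj)) Rep.one fun c hc => (permE_zero (h c hc) j hj).2

/-- the letter `j` is conjugate to the letter `0` by the word `W j` -/
noncomputable def cnjE (T : ℕ → ℕ → ℕ) (W : ℕ → List ℕ) (N m j : ℕ) : ℕ :=
  Nat.add (lettE m (W j)) (upTo (fun c => Nat.xor (tr T (W j) (T (nat_lit 0) c)) (T j (tr T (W j) c))) N)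

theorem isConj_of_cnjE [FaithfulSMul G X] (hs : ∀ x, ∃ i < N, pt i = x) (hr : Reps pt N g T m)
    {W : ℕ → List ℕ} {j : ℕ} (hj : j < m) (h : cnjE T W N m j = 0) : g j = ev g (W j) * g 0 * (ev g (W j))⁻¹ := by
  obtain ⟨h1, h2⟩ := add_eq_zero' h
  have h3 := hr.ev (lettE_zero h1)
  rw [eq_mul_inv_iff_mul_eq]
  exact Rep.eq_of_faithful hs ((hr j hj).mul h3) (h3.mul (hr 0 (by omega)))
    fun c hc => (xor_eq_zero' (upTo_zero h2 c hc)).symm

/-- the order of a letter divides `p` -/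
theorem orderOf_dvd_of_fix [FaithfulSMul G X] (hs : ∀ x, ∃ i < N, pt i = x) (hr : Reps pt N g T m) {j p : ℕ}
    (hj : j < m) (h : ∀ c < N, fixE T (List.replicate p j) c = 0) : orderOf (g j) ∣ p := by
  have h1 := ev_eq_one hs hr (fun i hi => (List.eq_of_mem_replicate hi) ▸ hj) h
  have h2 : ∀ p, ev g (List.replicate p j) = g j ^ p := by
    intro p
    induction p with
    | zero => simp
    | succ p ih => rw [List.replicate_succ, ev_cons, ih, pow_succ]
  exact orderOf_dvd_of_pow_eq_one (h2 p ▸ h1)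

end

end Cfsg.Agent.PC
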