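import Cfsg.Agent.Lib.PermCert.HC
import Cfsg.Agent.Lib.PermCert.Simple
import Cfsg.Prelude.Def_SporCoxeter

/-! Coxeter-type relators: checks on tables and presented groups. -/

set_option autoImplicit false

namespace Cfsg.Agent.PC

open Cfsg.Spor

/-- check of the pair of letters `a`, `b` at a point with images `y`, `z`: commuting or braid relation -/
noncomputable def cxP (T : ℕ → ℕ → ℕ) (M : ℕ → ℕ → ℕ) (a y b z : ℕ) : ℕ :=
  Nat.rec (Nat.xor (T b y) (T a z)) (fun _ _ => frc (T b y) fun u => frc (T a z) fun v => Nat.xor (T a u) (T b v)) (M a b)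

/-- all pairs of letters that do not lower the point `c` -/
noncomputable def cxGo (T : ℕ → ℕ → ℕ) (M : ℕ → ℕ → ℕ) (c n : ℕ) : List (ℕ × ℕ) → ℕ :=
  Nat.rec (motive := fun _ => List (ℕ × ℕ) → ℕ) (fun _ => nat_lit 0)
    (fun a ih L => frc (T a c) fun y => Nat.rec
      (Nat.add (List.rec (nat_lit 0) (fun q _ r => Nat.add (cxP T M a y q.1 q.2) r) L) (ih ((a, y) :: L)))
      (fun _ _ => ih L) (Nat.sub c y)) n

theorem cxGo_zero {T M : ℕ → ℕ → ℕ} {c : ℕ} : ∀ n L, cxGo T M c n L = 0 → ∀ a < n, c ≤ T a c →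
    (∀ q ∈ L, cxP T M a (T a c) q.1 q.2 = 0) ∧ ∀ b < n, a < b → c ≤ T b c → cxP T M a (T a c) b (T b c) = 0 := by
  intro n
  induction n with
  | zero => exact fun _ _ _ h => absurd h (Nat.not_lt_zero _)
  | succ n ih =>
    intro L h a ha hc
    change Nat.rec (motive := fun _ => ℕ) _ _ (c - T n c) = 0 at h
    rcases e : c - T n c with _ | k
    · rw [e] at h
      obtain ⟨h1, h2⟩ := add_eq_zero' h
      rcases Nat.lt_succ_iff_lt_or_eq.mp ha with ha | rfl
      · obtain ⟨h3, h4⟩ := ih _ h2 a ha hc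
        refine ⟨fun q hq => h3 q (List.mem_cons_of_mem _ hq), fun b hb h5 h6 => ?_⟩
        rcases Nat.lt_succ_iff_lt_or_eq.mp hb with hb | rfl
        exacts [h4 b hb h5 h6, h3 _ List.mem_cons_self]
      · refine ⟨?_, fun b hb h5 => by omega⟩
        clear h h2
        induction L with
        | nil => simp
        | cons q L ihL =>
          obtain ⟨t1, t2⟩ := add_eq_zero' h1
          simpa using ⟨t1, by simpa using ihL t2⟩
    · rw [e] at h
      have ha' : a < n := lt_of_le_of_ne (by omega) (by rintro rfl; omega)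
      obtain ⟨h3, h4⟩ := ih _ h a ha' hc
      exact ⟨h3, fun b hb h5 h6 => h4 b (lt_of_le_of_ne (by omega) (by rintro rfl; omega)) h5 h6⟩

theorem cx_tab {T M : ℕ → ℕ → ℕ} {N n : ℕ} (hi : ∀ c < N, ∀ j < n, T j c < N ∧ T j (T j c) = c)
    (h : ∀ c < N, cxGo T M c n [] = 0) {a b : ℕ} (hb : b < n) (hab : a < b) : ∀ c < N,
    if M a b = 0 then T b (T a c) = T a (T b c) else T a (T b (T a c)) = T b (T a (T b c)) := by
  intro c
  induction c using Nat.strong_induction_on with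
  | _ c ih =>
    intro hc
    have ha : a < n := by omega
    have a1 := hi c hc a ha
    have b1 := hi c hc b hb
    by_cases e1 : T a c < c
    · have := ih _ e1 a1.1
      rw [a1.2] at this
      split_ifs at this ⊢
      · rw [this, (hi _ (hi _ a1.1 b hb).1 a ha).2]
      · rw [this, (hi _ (hi _ (hi _ a1.1 b hb).1 a ha).1 b hb).2]
    by_cases e2 : T b c < c
    · have := ih _ e2 b1.1
      rw [b1.2] at this
      split_ifs at this ⊢
      · rw [← this, (hi _ (hi _ b1.1 a ha).1 b hb).2]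
      · rw [← this, (hi _ (hi _ (hi _ b1.1 a ha).1 b hb).1 a ha).2]
    have := (cxGo_zero _ _ (h c hc) a ha (by omega)).2 b hb hab (by omega)
    unfold cxP at this
    rcases e : M a b with _ | k <;> rw [e] at this
    · exact (if_pos rfl).mpr (xor_eq_zero' this)
    · exact (if_neg (Nat.succ_ne_zero k)).mpr (xor_eq_zero' this)

section
variable {G : Type*} [Group G] {g : ℕ → G} {n : ℕ} {L : ℕ → ℕ → ℕ}

/-- involutions with the products of orders dividing `L a b` -/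
def Cx (g : ℕ → G) (n : ℕ) (L : ℕ → ℕ → ℕ) : Prop := ∀ a < n, g a * g a = 1 ∧ ∀ b < n, a ≠ b → (g a * g b) ^ L a b = 1

theorem Cx.inv (h : Cx g n L) : InvOK g (fun j => j) n :=
  fun j hj => ⟨hj, (inv_eq_of_mul_eq_one_left (h j hj).1).symm⟩

theorem Cx.rels (h : Cx g n L) {rels ex : List (List ℕ)} (he : ∀ w ∈ ex, ev g w = 1)
    (hr : ∀ w ∈ rels, w ∈ ex ∨ w.getD 0 0 < n ∧ w.getD 1 0 < n ∧ w.getD 1 0 ≠ w.getD 0 0 ∧
      w = wpow [w.getD 0 0, w.getD 1 0] (L (w.getD 1 0) (w.getD 0 0))) : ∀ w ∈ rels, ev g w = 1 := fun w hw =>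
  (hr w hw).elim (he w) fun ⟨a, b, c, d⟩ => by
    rw [d, ev_wpow, ev_cons, ev_cons, ev_nil, one_mul]; exact (h _ b).2 _ a c

theorem Cx.comp (h : Cx g n L) (σ : ℕ → ℕ) {n' : ℕ} {L' : ℕ → ℕ → ℕ}
    (hσ : ∀ a < n', σ a < n ∧ ∀ b < n', a ≠ b → σ a ≠ σ b ∧ L (σ a) (σ b) = L' a b) : Cx (fun j => g (σ j)) n' L' :=
  fun a ha => ⟨(h _ (hσ a ha).1).1, fun b hb e =>
    ((hσ a ha).2 b hb e).2 ▸ (h _ (hσ a ha).1).2 _ (hσ b hb).1 ((hσ a ha).2 b hb e).1⟩

theorem cx_of_tab {X : Type*} [MulAction G X] [FaithfulSMul G X] {pt : ℕ → X} {N : ℕ} {T M : ℕ → ℕ → ℕ}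
    (hs : ∀ x, ∃ i < N, pt i = x) (R : Reps pt N g T n) (hi : ∀ c < N, ∀ j < n, T j c < N ∧ T j (T j c) = c)
    (h : ∀ c < N, cxGo T M c n [] = 0) (hL : ∀ a < n, ∀ b < a, L a b = L b a ∧ L b a = if M b a = 0 then 2 else 3) :
    Cx g n L := by
  have sq : ∀ a < n, g a * g a = 1 := fun a ha =>
    Rep.eq_of_faithful hs ((R a ha).mul (R a ha)) Rep.one fun c hc => (hi c hc a ha).2
  have iv : ∀ a < n, (g a)⁻¹ = g a := fun a ha => inv_eq_of_mul_eq_one_left (sq a ha)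
  have key : ∀ b < n, ∀ a < b, (g a * g b) ^ L a b = 1 := fun b hb a hab => by
    have ha : a < n := by omega
    have := cx_tab hi h hb hab
    rw [(hL b hb a hab).2]
    split_ifs at this ⊢
    · have e := Rep.eq_of_faithful hs ((R b hb).mul (R a ha)) ((R a ha).mul (R b hb)) this
      rw [pow_two]; nth_rewrite 1 [← e]
      rw [mul_assoc, ← mul_assoc (g a), sq a ha, one_mul, sq b hb]
    · have e := Rep.eq_of_faithful hs ((R a ha).mul ((R b hb).mul (R a ha))) ((R b hb).mul ((R a ha).mul (R b hb))) this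
      rw [show (g a * g b) ^ 3 = g a * (g b * g a) * (g b * (g a * g b)) by simp only [pow_succ, pow_zero, one_mul, mul_assoc],
        e, ← e, mul_eq_one_iff_eq_inv, e, mul_inv_rev, mul_inv_rev, iv a ha, iv b hb, mul_assoc]
  refine fun a ha => ⟨sq a ha, fun b hb e => ?_⟩
  rcases lt_or_gt_of_ne e with e | e
  · exact key b hb a e
  · rw [(hL a ha b e).1, ← inv_eq_one, ← inv_pow, mul_inv_rev, iv a ha, iv b hb]; exact key a ha b e

/-- trace with forced values -/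
noncomputable def trF (T : ℕ → ℕ → ℕ) (w : List ℕ) : ℕ → ℕ :=
  List.rec (motive := fun _ => ℕ → ℕ) (fun c => c) (fun j _ ih c => frc (T j c) ih) w

theorem trF_eq (T : ℕ → ℕ → ℕ) (w : List ℕ) : trF T w = tr T w := by
  induction w with
  | nil => rfl
  | cons j w ih => exact funext fun c => congrFun ih (T j c)

noncomputable def itF (f : ℕ → ℕ) (k x : ℕ) : ℕ := Nat.rec x (fun _ y => frc y f) k

theorem Rep.itF {X : Type*} [MulAction G X] {pt : ℕ → X} {N : ℕ} {a : G} {f : ℕ → ℕ} (h : Rep pt N a f) (k : ℕ) :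
    Rep pt N (a ^ k) (itF f k) := by
  induction k with
  | zero => rw [pow_zero]; exact Rep.one
  | succ n ih => rw [pow_succ']; exact h.mul ih

/-- `Y` is the table of `w`, and its power `k + 1` is the table of `u` -/
noncomputable def powE (T : ℕ → ℕ → ℕ) (w u : List ℕ) (Y : ℕ → ℕ) (k c : ℕ) : ℕ :=
  frc (Y c) fun y => Nat.add (Nat.xor (trF T w c) y) (Nat.xor (itF Y k y) (trF T u c))

theorem pow_of_tab {X : Type*} [MulAction G X] [FaithfulSMul G X] {pt : ℕ → X} {N : ℕ} {T : ℕ → ℕ → ℕ}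
    (hs : ∀ x, ∃ i < N, pt i = x) (R : Reps pt N g T n) {w u : List ℕ} (hw : ∀ j ∈ w, j < n) (hu : ∀ j ∈ u, j < n)
    {Y : ℕ → ℕ} {k : ℕ} (h : ∀ c < N, powE T w u Y k c = 0) : ev g w ^ (k + 1) = ev g u := by
  have r := (R.ev hw).congr (f' := Y) fun c hc => trF_eq T w ▸ xor_eq_zero' (add_eq_zero' (h c hc)).1
  rw [pow_succ]
  exact Rep.eq_of_faithful hs ((r.itF k).mul r) (R.ev hu) fun c hc => trF_eq T u ▸ xor_eq_zero' (add_eq_zero' (h c hc)).2

noncomputable def relF (T : ℕ → ℕ → ℕ) (ws : List (List ℕ)) (c : ℕ) : ℕ :=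
  List.rec (nat_lit 0) (fun w _ ih => Nat.add (Nat.xor (trF T w c) c) ih) ws

theorem rel_of_tab {X : Type*} [MulAction G X] [FaithfulSMul G X] {pt : ℕ → X} {N : ℕ} {T : ℕ → ℕ → ℕ}
    (hs : ∀ x, ∃ i < N, pt i = x) (R : Reps pt N g T n) {ws : List (List ℕ)} (hw : ∀ w ∈ ws, ∀ j ∈ w, j < n)
    (h : ∀ c < N, relF T ws c = 0) : ∀ w ∈ ws, ev g w = 1 := by
  induction ws with
  | nil => simp
  | cons w ws ih =>
    rw [List.forall_mem_cons] at hw ⊢
    exact ⟨Rep.eq_of_faithful hs (R.ev hw.1) Rep.one fun c hc => trF_eq T w ▸ xor_eq_zero' (add_eq_zero' (h c hc)).1,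
      ih hw.2 fun c hc => (add_eq_zero' (h c hc)).2⟩

theorem ev_rev (h : ∀ j < n, g j * g j = 1) {w : List ℕ} (hw : ∀ j ∈ w, j < n) : ev g w.reverse = (ev g w)⁻¹ := by
  have := ev_invw (g := g) (inv := id) (w := w) fun j hj => (inv_eq_of_mul_eq_one_left (h j (hw j hj))).symm
  rwa [invw, List.map_id] at this

end

section
variable {α : Type} [DecidableEq α] {E : List (α × ℕ × α)} {X : List (FreeGroup α)}

/-- the letters of a presented group -/
def cpg (E : List (α × ℕ × α)) (X : List (FreeGroup α)) (l : ℕ → α) (j : ℕ) : CoxPresented α E X := PresentedGroup.of (l j)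

theorem cp_cx {l : ℕ → α} {n : ℕ} {L : ℕ → ℕ → ℕ}
    (h : ∀ a < n, l a ∈ coxNodes E ∧ ∀ b < n, a ≠ b → coxLabel E (l a) (l b) = L a b) : Cx (cpg E X l) n L := by
  have k : ∀ a < n, ∀ b < n, (cpg E X l a * cpg E X l b) ^ coxLabel E (l a) (l b) = 1 := fun a ha b hb => by
    have := PresentedGroup.one_of_mem (rels := coxRelators E ∪ {r | r ∈ X})
      (Or.inl ⟨_, (h a ha).1, _, (h b hb).1, rfl⟩)
    rwa [map_pow, map_mul] at this
  exact fun a ha => ⟨by simpa [coxLabel] using k a ha a ha, fun b hb e => (h a ha).2 b hb e ▸ k a ha b hb⟩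

theorem cp_extra {r : FreeGroup α} (h : r ∈ X) : PresentedGroup.mk (coxRelators E ∪ {r | r ∈ X}) r = 1 :=
  PresentedGroup.one_of_mem (Or.inr h)

theorem cp_top {l : ℕ → α} {n : ℕ} (h : ∀ x, ∃ j < n, l j = x) : gen (cpg E X l) n = ⊤ := by
  rw [eq_top_iff, ← PresentedGroup.closure_range_of, Subgroup.closure_le]
  rintro _ ⟨x, rfl⟩
  obtain ⟨j, hj, rfl⟩ := h x
  exact mem_gen (cpg E X l) hj

theorem cp_hom {H : Type*} [Group H] {f : ℕ → H} {n : ℕ} {L : ℕ → ℕ → ℕ} (hc : Cx f n L) (i : α → ℕ)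
    (h : ∀ x, i x < n ∧ ∀ y, x ≠ y → i x ≠ i y ∧ coxLabel E x y = L (i x) (i y))
    (he : ∀ r ∈ X, FreeGroup.lift (fun x => f (i x)) r = 1) :
    ∃ φ : CoxPresented α E X →* H, ∀ x, φ (PresentedGroup.of x) = f (i x) := by
  refine ⟨PresentedGroup.toGroup (f := fun x => f (i x)) ?_, fun x => PresentedGroup.toGroup.of _⟩
  rintro r (⟨x, -, y, -, rfl⟩ | hr)
  · rw [map_pow, map_mul, FreeGroup.lift_apply_of, FreeGroup.lift_apply_of]
    by_cases e : x = y
    · subst e; simpa [coxLabel] using (hc _ (h x).1).1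
    · rw [((h x).2 y e).2]; exact (hc _ (h x).1).2 _ (h y).1 ((h x).2 y e).1
  · exact he r hr

end

end Cfsg.Agent.PC
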