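import Cfsg.Agent.Lib.PermCert.PL
import Cfsg.Agent.Lib.PermCert.More

/-! Hybrid coset-enumeration certificates: the final table carries time stamps and rule codes; the few
deductions that pass through redundant cosets are listed as auxiliary facts.

Entry `E j c = target + K * (code + C * time)`.  Auxiliary fact `X k = a + A * (b + A * time)` with
`a = 16 * c + j`, `b = 16 * d + inv j`, read `g j • pt c = pt d`; the letter `m` is the identity. -/

set_option autoImplicit false

namespace Cfsg.Agent.PC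

/-- evaluate `n` before passing it on -/
noncomputable def frc (n : ℕ) (f : ℕ → ℕ) : ℕ :=
  Nat.rec (nat_lit 0) (fun m _ => f m) (Nat.add n (nat_lit 1))

theorem frc_eq (n : ℕ) (f : ℕ → ℕ) : frc n f = f n := rfl

/-- letter tables in one tree: chunks of 512 entries, the letter in the four low bits of the key -/
noncomputable def getL (t : TN) (w mask j c : ℕ) : ℕ :=
  Nat.land (Nat.shiftRight (Nat.rec (nat_lit 0) (fun m _ => t.get m)
    (Nat.add (Nat.add (Nat.mul (Nat.shiftRight c (nat_lit 9)) (nat_lit 16)) j) (nat_lit 1)))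
    (Nat.mul w (Nat.land c (nat_lit 511)))) mask

/-- chunks of 512 entries -/
noncomputable def get9 (t : TN) (w mask i : ℕ) : ℕ :=
  Nat.land (Nat.shiftRight (Nat.rec (nat_lit 0) (fun m _ => t.get m)
    (Nat.add (Nat.shiftRight i (nat_lit 9)) (nat_lit 1))) (Nat.mul w (Nat.land i (nat_lit 511)))) mask

theorem getL_mod (t : TN) (w : ℕ) {a b m1 m2 K : ℕ} (h1 : m1 = 2 ^ a - 1) (h2 : m2 = 2 ^ b - 1) (hK : K = 2 ^ a)
    (hab : a ≤ b) (j c : ℕ) : getL t w m1 j c = getL t w m2 j c % K := by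
  subst h1 h2 hK
  unfold getL
  generalize Nat.shiftRight _ _ = y
  show y &&& (2 ^ a - 1) = (y &&& (2 ^ b - 1)) % 2 ^ a
  rw [Nat.and_two_pow_sub_one_eq_mod, Nat.and_two_pow_sub_one_eq_mod, Nat.mod_mod_of_dvd _ (pow_dvd_pow 2 hab)]

/-- trace through table entries at most `b` -/
noncomputable def hTr (K : ℕ) (E : ℕ → ℕ → ℕ) (b d : ℕ) (w : List ℕ) : ℕ → ℕ :=
  List.rec (motive := fun _ => ℕ → ℕ) (fun c => Nat.xor c d)
    (fun j _ ih c => (fun e => Nat.add (Nat.sub e b) (ih (Nat.mod e K))) (E j c)) w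

/-- definition of the coset `c` from `p` by the letter `j` -/
noncomputable def hDef (KP : ℕ) (Pa : ℕ → ℕ) (c j p : ℕ) : ℕ :=
  frc (Pa c) fun q => Nat.add (Nat.xor (Nat.mod q KP) (Nat.add (Nat.mul p (nat_lit 16)) j)) (ltE (Pa p) q)

noncomputable def cAux (KC A na : ℕ) (X : ℕ → ℕ) (c j d e k : ℕ) : ℕ :=
  frc (X k) fun x => Nat.add (Nat.add (ltE k na) (ltE (Nat.mul (Nat.div (Nat.div x A) A) KC) e))
    (Nat.add (Nat.xor (Nat.mod x A) (Nat.add (Nat.mul c (nat_lit 16)) j))
      (Nat.xor (Nat.div (Nat.mod (Nat.div x A) A) (nat_lit 16)) d))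

noncomputable def cDef (mh KP : ℕ) (Pa : ℕ → ℕ) (c j d : ℕ) : ℕ :=
  Nat.rec (nat_lit 0) (fun _ _ => Nat.add (Nat.add c d) (ltE j mh)) (hDef KP Pa c j d)

noncomputable def cRule (K KC A na : ℕ) (E : ℕ → ℕ → ℕ) (X : ℕ → ℕ) (W : ℕ → List ℕ) (c j d e b r : ℕ) : ℕ :=
  List.rec (nat_lit 1) (fun k L _ => List.rec (cAux KC A na X c j d e k)
    (fun h w _ => Nat.add (Nat.xor h j) (hTr K E b d w c)) L) (W r)

noncomputable def cCase (mh K C KC A KP na : ℕ) (E : ℕ → ℕ → ℕ) (X Pa : ℕ → ℕ) (W : ℕ → List ℕ)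
    (c j d e b e' : ℕ) : ℕ :=
  Nat.rec (Nat.sub e' b) (fun r0 _ => Nat.rec (cDef mh KP Pa c j d)
    (fun r _ => cRule K KC A na E X W c j d e b r) r0) (Nat.mod (Nat.div e K) C)

/-- check of the table entry `(j, c)`; the labels are at most `N1` -/
noncomputable def hEnt (N1 mh K C KC A KP na : ℕ) (E : ℕ → ℕ → ℕ) (X Pa inv : ℕ → ℕ) (W : ℕ → List ℕ) (c j : ℕ) : ℕ :=
  Nat.rec (nat_lit 1) (fun b _ => (fun e => frc (Nat.mod e K) fun d => (fun e' =>
    Nat.add (Nat.add (Nat.sub d N1) (Nat.xor (Nat.mod e' K) c))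
      (cCase mh K C KC A KP na E X Pa W c j d e b e')) (E (inv j) d)) (E j c)) (E j c)

theorem hEnt_zero {N1 mh K C KC A KP na : ℕ} {E : ℕ → ℕ → ℕ} {X Pa inv : ℕ → ℕ} {W : ℕ → List ℕ} {c j : ℕ}
    (h : hEnt N1 mh K C KC A KP na E X Pa inv W c j = 0) : E j c % K < N1 + 1 ∧ E (inv j) (E j c % K) % K = c ∧
      ∃ b, E j c = b + 1 ∧ cCase mh K C KC A KP na E X Pa W c j (E j c % K) (E j c) b (E (inv j) (E j c % K)) = 0 := by
  have h1 : ∀ (f : ℕ → ℕ) e, Nat.rec (motive := fun _ => ℕ) 1 (fun b _ => f b) e = 0 → ∃ b, e = b + 1 ∧ f b = 0 := by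
    rintro f (_ | b) h7
    · exact absurd (show (1 : ℕ) = 0 from h7) one_ne_zero
    · exact ⟨b, rfl, h7⟩
  obtain ⟨b, hb, h2⟩ := h1 _ _ h
  obtain ⟨h3, h4⟩ := add_eq_zero' h2
  obtain ⟨h5, h6⟩ := add_eq_zero' h3
  exact ⟨Nat.lt_succ_of_le (sub_eq_zero' h5), xor_eq_zero' h6, b, hb, h4⟩

noncomputable def hRow (N1 m mh K C KC A KP na : ℕ) (E : ℕ → ℕ → ℕ) (X Pa inv : ℕ → ℕ) (W : ℕ → List ℕ) (c : ℕ) : ℕ :=
  lin (hEnt N1 mh K C KC A KP na E X Pa inv W c) (nat_lit 0) m

/-- trace of an auxiliary fact of time `t`; digit `0` is a table step, digit `r + 1` the auxiliary fact `r` -/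
noncomputable def aTr (N m K KC A B na : ℕ) (E : ℕ → ℕ → ℕ) (X : ℕ → ℕ) (t d : ℕ) (w : List ℕ) : ℕ → ℕ → ℕ :=
  List.rec (motive := fun _ => ℕ → ℕ → ℕ) (fun c _ => Nat.xor c d)
    (fun j _ ih c s => frc (Nat.div s B) fun s' => Nat.rec
      (frc (E j c) fun e => Nat.add (Nat.add (Nat.add (ltE c N) (ltE j m)) (ltE e (Nat.mul t KC)))
        (frc (Nat.mod e K) fun c' => ih c' s'))
      (fun r _ => frc (X r) fun x => frc (Nat.mod x A) fun a => frc (Nat.mod (Nat.div x A) A) fun b =>
        frc (Nat.add (Nat.mul c (nat_lit 16)) j) fun y =>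
        Nat.add (Nat.add (ltE r na) (ltE (Nat.div (Nat.div x A) A) t))
          (Nat.rec (frc (Nat.div b (nat_lit 16)) fun c' => ih c' s')
            (fun _ _ => Nat.add (Nat.xor y b) (frc (Nat.div a (nat_lit 16)) fun c' => ih c' s')) (Nat.xor y a)))
      (Nat.mod s B)) w

/-- check of the auxiliary fact `k` -/
noncomputable def hAux (N m K KC A B RB KP na : ℕ) (E : ℕ → ℕ → ℕ) (X J Pa inv : ℕ → ℕ) (W' : ℕ → List ℕ) (k : ℕ) : ℕ :=
  frc (X k) fun x => frc (Nat.mod x A) fun a => frc (Nat.mod (Nat.div x A) A) fun b => frc (J k) fun s =>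
    Nat.add (Nat.xor (inv (Nat.mod a (nat_lit 16))) (Nat.mod b (nat_lit 16)))
      (List.rec (nat_lit 1) (fun _ L _ => List.rec
        (Nat.add (ltE (Nat.mod a (nat_lit 16)) m)
          (hDef KP Pa (Nat.div b (nat_lit 16)) (Nat.mod b (nat_lit 16)) (Nat.div a (nat_lit 16))))
        (fun h w _ => Nat.add (Nat.xor h (Nat.mod a (nat_lit 16)))
          (aTr N m K KC A B na E X (Nat.div (Nat.div x A) A) (Nat.div b (nat_lit 16)) w (Nat.div a (nat_lit 16))
            (Nat.div s RB))) L) (W' (Nat.mod s RB)))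

/-- sum of `f` over the leaves -/
noncomputable def TL.sumE (f : List ℕ → ℕ) (t : TL) : ℕ :=
  TL.rec (motive := fun _ => ℕ) (fun l => f l) (fun _ _ a b => Nat.add a b) t

theorem TL.sumE_zero {f : List ℕ → ℕ} {t : TL} (h : t.sumE f = 0) (i : ℕ) : f (t.get i) = 0 := by
  refine TL.All.get (P := fun l => f l = 0) ?_ i
  induction t with
  | leaf l => exact h
  | node l r ihl ihr => exact ⟨ihl (add_eq_zero' h).1, ihr (add_eq_zero' h).2⟩

/-- a leaf `code :: rule` with letters below `n` -/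
noncomputable def leafE (m n : ℕ) (inv : ℕ → ℕ) (Rel : ℕ → List ℕ) (l : List ℕ) : ℕ :=
  List.rec (nat_lit 0) (fun k L _ => Nat.add (lettE n L) (rule2E m inv Rel k L)) l

/-- rules below `nr`, pointers to auxiliary facts above -/
noncomputable def wfun (nr : ℕ) (W : TL) (r : ℕ) : List ℕ :=
  Nat.rec (W.get r) (fun k _ => [k]) (Nat.sub (Nat.add r (nat_lit 1)) nr)

theorem wfun_eq {nr : ℕ} {W : TL} {r k a : ℕ} {w : List ℕ} (h : wfun nr W r = k :: a :: w) :
    W.get r = k :: a :: w := by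
  unfold wfun at h
  generalize Nat.sub _ _ = z at h
  rcases z with _ | z
  · exact h
  · exact absurd (show [z] = k :: a :: w from h) (by simp)

/-- small side conditions -/
noncomputable def hSide (m mh KC : ℕ) (Pa inv : ℕ → ℕ) (Rel : ℕ → List ℕ) (W W' : TL) : ℕ :=
  Nat.add (Nat.add (Nat.add (ltE m (nat_lit 16)) (Nat.sub mh m)) (Nat.add (Nat.xor (inv m) m)
      (Nat.add (Pa (nat_lit 0)) (ltE (nat_lit 0) KC))))
    (Nat.add (W.sumE (leafE m m inv Rel)) (W'.sumE (leafE m (Nat.add m (nat_lit 1)) inv Rel)))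

section
variable {G : Type*} [Group G] {Y : Type*} [MulAction G Y]

noncomputable def hPt (g : ℕ → G) (KP : ℕ) (Pa : ℕ → ℕ) (x0 : Y) (c : ℕ) : Y :=
  if _h : Pa (Pa c % KP / 16) < Pa c then (g (Pa c % KP % 16))⁻¹ • hPt g KP Pa x0 (Pa c % KP / 16) else x0
termination_by Pa c

theorem hDef_ok {g : ℕ → G} {KP : ℕ} {Pa : ℕ → ℕ} (x0 : Y) {c j p : ℕ} (hj : j < 16) (h : hDef KP Pa c j p = 0) :
    g j • hPt g KP Pa x0 c = hPt g KP Pa x0 p := by
  obtain ⟨h1, h2⟩ := add_eq_zero' h
  have h3 : Pa c % KP = p * 16 + j := xor_eq_zero' h1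
  have e1 : Pa c % KP % 16 = j := by omega
  have e2 : Pa c % KP / 16 = p := by omega
  rw [hPt.eq_1 g KP Pa x0 c, e1, e2, dif_pos (ltE_zero h2), smul_inv_smul]

theorem hc_main {g : ℕ → G} {N N1 m mh K C KC A B RB KP na nr : ℕ} {E : ℕ → ℕ → ℕ} {X J Pa inv : ℕ → ℕ}
    {Rel : ℕ → List ℕ} {W W' : TL} (hN : N = N1 + 1) (hinv : InvOK g inv m) (hRel : ∀ i, ev g (Rel i) = 1)
    (hs : hSide m mh KC Pa inv Rel W W' = 0)
    (h : ∀ c < N, hRow N1 m mh K C KC A KP na E X Pa inv (wfun nr W) c = 0)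
    (ha : ∀ k < na, hAux N m K KC A B RB KP na E X J Pa inv W'.get k = 0) (x0 : Y) (hx : ∀ j < mh, g j • x0 = x0) :
    ∃ pt : ℕ → Y, pt 0 = x0 ∧ Reps pt N g (fun j c => E j c % K) m := by
  obtain ⟨s1, s2⟩ := add_eq_zero' hs
  obtain ⟨s3, s4⟩ := add_eq_zero' s1
  obtain ⟨s5, s6⟩ := add_eq_zero' s3
  obtain ⟨s7, s8⟩ := add_eq_zero' s4
  obtain ⟨s9, s10⟩ := add_eq_zero' s2
  have hm : m < 16 := ltE_zero s5
  have hmh : mh ≤ m := sub_eq_zero' s6
  have him : inv m = m := xor_eq_zero' s7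
  set g' := Function.update g m 1 with hg'
  have hinv' : InvOK g' inv (m + 1) := invOK_update hinv (fun _ _ => rfl) him
  have hgg : ∀ j < m, g' j = g j := fun j hj => Function.update_of_ne (by omega) _ _
  have hW : ∀ (n : ℕ) (t : TL), t.sumE (leafE m n inv Rel) = 0 → ∀ r k a w, t.get r = k :: a :: w →
      g' a = ev g' w ∧ a < n ∧ ∀ j ∈ w, j < n := by
    intro n t ht r k a w e
    have h1 := TL.sumE_zero ht r
    rw [e] at h1
    obtain ⟨h2, h3⟩ := add_eq_zero' h1
    have h4 := lettE_zero h2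
    exact ⟨(rule2E_ok hinv him hRel h3 a w rfl).1, h4 a List.mem_cons_self,
      fun j hj => h4 j (List.mem_cons_of_mem _ hj)⟩
  have hE : ∀ c < N, ∀ j < m, hEnt N1 mh K C KC A KP na E X Pa inv (wfun nr W) c j = 0 :=
    fun c hc j hj => lin_zero (h c hc) j hj
  have hlt : ∀ c < N, ∀ j < m, E j c % K < N := fun c hc j hj =>
    hN ▸ (hEnt_zero (hE c hc j hj)).1
  set pt := hPt g' KP Pa x0 with hpt
  have h0 : pt 0 = x0 := by
    rw [hpt, hPt.eq_1, dif_neg]
    have : Pa 0 = 0 := (add_eq_zero' s8).1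
    omega
  refine ⟨pt, h0, ?_⟩
  have key : ∀ v, (∀ c < N, ∀ j < m, E j c = v → g' j • pt c = pt (E j c % K)) ∧
      ∀ k < na, X k / A / A * KC = v → g' (X k % A % 16) • pt (X k % A / 16) = pt (X k / A % A / 16) ∧
        g' (X k / A % A % 16) • pt (X k / A % A / 16) = pt (X k % A / 16) := by
    intro v
    induction v using Nat.strong_induction_on with
    | _ v ih =>
      constructor
      · intro c hc j hj hv
        obtain ⟨-, h3, b, hb, h2⟩ := hEnt_zero (hE c hc j hj)
        have htr : ∀ b < v, ∀ d, ∀ w : List ℕ, (∀ i ∈ w, i < m) → ∀ c' < N, hTr K E b d w c' = 0 →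
            ev g' w • pt c' = pt d := by
          intro b hb d w
          induction w with
          | nil =>
            intro _ c' _ ht
            rw [xor_eq_zero' (show Nat.xor c' d = 0 from ht)]; simp
          | cons i w ihw =>
            intro hw c' hc' ht
            have hi := hw i List.mem_cons_self
            have ht' : Nat.add (Nat.sub (E i c') b) (hTr K E b d w (E i c' % K)) = 0 := ht
            obtain ⟨t1, t2⟩ := add_eq_zero' ht'
            have t3 := sub_eq_zero' t1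
            rw [ev_cons, mul_smul, (ih _ (by omega)).1 c' hc' i hi rfl]
            exact ihw (fun k hk => hw k (List.mem_cons_of_mem _ hk)) _ (hlt c' hc' i hi) t2
        change Nat.rec (motive := fun _ => ℕ) _ _ (E j c / K % C) = 0 at h2
        rcases hR : E j c / K % C with _ | _ | r
        · rw [hR] at h2
          have h5 : E (inv j) (E j c % K) ≤ b := sub_eq_zero' h2
          have h6 := (ih _ (by omega)).1 _ (hlt c hc j hj) _ (hinv j hj).1 rfl
          rw [h3, (hinv' j (by omega)).2, inv_smul_eq_iff] at h6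
          exact h6.symm
        · rw [hR] at h2
          change Nat.rec (motive := fun _ => ℕ) _ _ (hDef KP Pa c j (E j c % K)) = 0 at h2
          rcases hD : hDef KP Pa c j (E j c % K) with _ | z
          · exact hDef_ok x0 (by omega) hD
          · rw [hD] at h2
            obtain ⟨h4, h5⟩ := add_eq_zero' h2
            obtain ⟨h6, h7⟩ := add_eq_zero' h4
            have h8 : E j c % K = 0 := h7
            rw [h8, h6, h0, hgg j hj]
            exact hx j (ltE_zero h5)
        · rw [hR] at h2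
          change List.rec (motive := fun _ => ℕ) _ _ (wfun nr W r) = 0 at h2
          rcases hWr : wfun nr W r with _ | ⟨k, _ | ⟨a, w⟩⟩
          · rw [hWr] at h2; exact absurd (show (1 : ℕ) = 0 from h2) one_ne_zero
          · rw [hWr] at h2
            obtain ⟨h4, h5⟩ := add_eq_zero' h2
            obtain ⟨h6, h7⟩ := add_eq_zero' h4
            obtain ⟨h8, h9⟩ := add_eq_zero' h5
            have h10 : X k / A / A * KC < E j c := ltE_zero h7
            have h11 := ((ih _ (by omega)).2 k (ltE_zero h6) rfl).1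
            have h12 : X k % A = c * 16 + j := xor_eq_zero' h8
            have h13 : X k / A % A / 16 = E j c % K := xor_eq_zero' h9
            rwa [h13, show X k % A % 16 = j by omega, show X k % A / 16 = c by omega] at h11
          · rw [hWr] at h2
            obtain ⟨h4, h5⟩ := add_eq_zero' h2
            obtain ⟨h11, -, h12⟩ := hW m W s9 r k a w (wfun_eq hWr)
            rw [← xor_eq_zero' h4, h11, xor_eq_zero' h4]
            exact htr b (by omega) _ w h12 c hc h5
      · intro k hk hv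
        obtain ⟨h1, h2⟩ := add_eq_zero' (ha k hk)
        have h3 : inv (X k % A % 16) = X k / A % A % 16 := xor_eq_zero' h1
        have htr : ∀ d, ∀ w : List ℕ, (∀ i ∈ w, i < m + 1) → ∀ c s,
            aTr N m K KC A B na E X (X k / A / A) d w c s = 0 → ev g' w • pt c = pt d := by
          intro d w
          induction w with
          | nil =>
            intro _ c' _ ht
            rw [xor_eq_zero' (show Nat.xor c' d = 0 from ht)]; simp
          | cons i w ihw =>
            intro hw c s ht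
            have hi := hw i List.mem_cons_self
            have hw' : ∀ i ∈ w, i < m + 1 := fun k hk => hw k (List.mem_cons_of_mem _ hk)
            change Nat.rec (motive := fun _ => ℕ) _ _ (s % B) = 0 at ht
            rw [ev_cons, mul_smul]
            rcases hB : s % B with _ | r
            · rw [hB] at ht
              obtain ⟨t1, t2⟩ := add_eq_zero' ht
              obtain ⟨t3, t4⟩ := add_eq_zero' t1
              obtain ⟨t5, t6⟩ := add_eq_zero' t3
              have t7 : E i c < X k / A / A * KC := ltE_zero t4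
              rw [(ih _ (by omega)).1 c (ltE_zero t5) i (ltE_zero t6) rfl]
              exact ihw hw' _ _ t2
            · rw [hB] at ht
              obtain ⟨t1, t2⟩ := add_eq_zero' ht
              obtain ⟨t3, t4⟩ := add_eq_zero' t1
              have t5 : X r / A / A < X k / A / A := ltE_zero t4
              change Nat.rec (motive := fun _ => ℕ) _ _ (Nat.xor (c * 16 + i) (X r % A)) = 0 at t2
              have t6 : g' (X r % A % 16) • pt (X r % A / 16) = pt (X r / A % A / 16) ∧
                  g' (X r / A % A % 16) • pt (X r / A % A / 16) = pt (X r % A / 16) := by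
                exact (ih _ (hv ▸ Nat.mul_lt_mul_of_pos_right t5 (ltE_zero (add_eq_zero' s8).2))).2 r
                  (ltE_zero t3) rfl
              rcases hx : Nat.xor (c * 16 + i) (X r % A) with _ | z
              · rw [hx] at t2
                have t7 := xor_eq_zero' hx
                have t8 := t6.1
                rw [show X r % A % 16 = i by omega, show X r % A / 16 = c by omega] at t8
                rw [t8]
                exact ihw hw' _ _ t2
              · rw [hx] at t2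
                obtain ⟨t9, t10⟩ := add_eq_zero' t2
                have t7 : c * 16 + i = X r / A % A := xor_eq_zero' t9
                have t8 := t6.2
                rw [show X r / A % A % 16 = i by omega, show X r / A % A / 16 = c by omega] at t8
                rw [t8]
                exact ihw hw' _ _ t10
        change List.rec (motive := fun _ => ℕ) _ _ (W'.get (J k % RB)) = 0 at h2
        rcases hWr : W'.get (J k % RB) with _ | ⟨q, _ | ⟨a, w⟩⟩
        · rw [hWr] at h2; exact absurd (show (1 : ℕ) = 0 from h2) one_ne_zero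
        · rw [hWr] at h2
          obtain ⟨h4, h5⟩ := add_eq_zero' h2
          have h6 : X k % A % 16 < m := ltE_zero h4
          have h7 := hDef_ok (g := g') x0 (Nat.mod_lt _ (by norm_num)) h5
          refine ⟨?_, h7⟩
          change g' (X k / A % A % 16) • pt (X k / A % A / 16) = pt (X k % A / 16) at h7
          rw [← h3, (hinv' _ (by omega)).2, inv_smul_eq_iff] at h7
          exact h7.symm
        · rw [hWr] at h2
          obtain ⟨h4, h5⟩ := add_eq_zero' h2
          obtain ⟨h11, h13, h12⟩ := hW _ W' s10 _ q a w hWr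
          have h14 : a = X k % A % 16 := xor_eq_zero' h4
          have h15 := htr _ w h12 _ _ h5
          rw [← h11, h14] at h15
          refine ⟨h15, ?_⟩
          rw [← h3, (hinv' _ (h14 ▸ h13)).2, inv_smul_eq_iff]
          exact h15.symm
  exact fun j hj c hc => ⟨hlt c hc j hj, hgg j hj ▸ (key _).1 c hc j hj rfl⟩

/-- the enumeration closes on the tables `T` -/
def ClosesT.{u} (inv : ℕ → ℕ) (rels : List (List ℕ)) (m mh N : ℕ) (T : ℕ → ℕ → ℕ) : Prop :=
  ∀ (Γ : Type u) [Group Γ] (Z : Type u) [MulAction Γ Z] (g : ℕ → Γ) (x0 : Z), InvOK g inv m →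
    (∀ w ∈ rels, ev g w = 1) → (∀ j < mh, g j • x0 = x0) → ∃ pt : ℕ → Z, pt 0 = x0 ∧ Reps pt N g T m

theorem hc_closes {N N1 m mh K C KC A B RB KP na nr : ℕ} {E T : ℕ → ℕ → ℕ} {X J Pa inv : ℕ → ℕ}
    {rels : List (List ℕ)} {W W' : TL} (hN : N = N1 + 1) (hT : ∀ j c, T j c = E j c % K)
    (hs : Nat.beq (hSide m mh KC Pa inv (fun i => rels.getD i []) W W') (nat_lit 0) = true)
    (h : ∀ c < N, hRow N1 m mh K C KC A KP na E X Pa inv (wfun nr W) c = 0)
    (ha : ∀ k < na, hAux N m K KC A B RB KP na E X J Pa inv W'.get k = 0) : ClosesT inv rels m mh N T := by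
  intro Γ _ Z _ g x0 h1 h2 h3
  obtain ⟨pt, a, b⟩ := hc_main hN h1 (getD_rel h2) (Nat.eq_of_beq_eq_true hs) h ha x0 h3
  exact ⟨pt, a, fun j hj c hc => by rw [hT]; exact b j hj c hc⟩

theorem ClosesT.closes.{u} {Γ : Type u} [Group Γ] {inv : ℕ → ℕ} {rels : List (List ℕ)} {m mh N : ℕ}
    {T : ℕ → ℕ → ℕ} (h : ClosesT.{u} inv rels m mh N T) {g : ℕ → Γ} (h1 : InvOK g inv m)
    (h2 : ∀ w ∈ rels, ev g w = 1) : Closes g m mh N := fun Z _ x0 h3 => by
  obtain ⟨pt, a, b⟩ := h Γ Z g x0 h1 h2 h3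
  exact ⟨pt, T, a, b⟩

/-- the table is undone by the inverse letter -/
theorem hc_inv {N N1 m mh K C KC A KP na : ℕ} {E T : ℕ → ℕ → ℕ} {X Pa inv : ℕ → ℕ} {W : ℕ → List ℕ}
    (hN : N = N1 + 1) (hT : ∀ j c, T j c = E j c % K) (h : ∀ c < N, hRow N1 m mh K C KC A KP na E X Pa inv W c = 0) :
    ∀ c < N, ∀ j < m, T j c < N ∧ T (inv j) (T j c) = c := fun c hc j hj => by
  rw [hT, hT, hN]
  exact ⟨(hEnt_zero (lin_zero (h c hc) j hj)).1, (hEnt_zero (lin_zero (h c hc) j hj)).2.1⟩

end

end Cfsg.Agent.PC
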