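import Cfsg.Agent.Lib.PermCert.More
import Mathlib.GroupTheory.Perm.Sign
import Mathlib.Logic.Equiv.Fintype
import Mathlib.Data.Fintype.Perm
import Mathlib.Tactic.FinCases
import Mathlib.Data.Fin.VecNotation
import Mathlib.Tactic.IntervalCases

/-! The Coxeter relations of type A present the symmetric group; strings of transpositions. -/

set_option autoImplicit false

namespace Cfsg.Agent.PC

open Equiv

variable {G : Type*} [Group G]

structure CoxA (s : ℕ → G) (m : ℕ) : Prop where
  sq : ∀ i < m, s i * s i = 1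
  br : ∀ i, i + 1 < m → s i * s (i + 1) * s i = s (i + 1) * s i * s (i + 1)
  cm : ∀ i j, i + 1 < j → j < m → Commute (s i) (s j)

def dsc (s : ℕ → G) : ℕ → ℕ → G
  | 0, _ => 1
  | n + 1, i => s i * dsc s n (i + 1)

theorem CoxA.dA {s : ℕ → G} {m : ℕ} (h : CoxA s m) {j : ℕ} (n : ℕ) : ∀ i, j + 1 < i → i + n ≤ m →
    Commute (s j) (dsc s n i) := by
  induction n with
  | zero => exact fun _ _ _ => Commute.one_right _
  | succ n ih => exact fun i h1 h2 => (h.cm j i h1 (by omega)).mul_right (ih _ (by omega) (by omega))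

theorem CoxA.dB {s : ℕ → G} {m : ℕ} (h : CoxA s m) {j : ℕ} (n : ℕ) : ∀ i, i ≤ j → j + 1 < i + n → i + n ≤ m →
    s (j + 1) * dsc s n i = dsc s n i * s j := by
  induction n with
  | zero => intro i h1 h2; omega
  | succ n ih =>
    intro i h1 h2 h3
    rcases h1.lt_or_eq with h1 | rfl
    · rw [dsc, ← mul_assoc, ← (h.cm i (j + 1) (by omega) (by omega)).eq, mul_assoc, ih _ h1 (by omega) (by omega), mul_assoc]
    · obtain _ | n := n
      · omega
      rw [dsc, dsc, ← mul_assoc, ← mul_assoc, ← h.br i (by omega), mul_assoc, (h.dA n (i + 1 + 1) (by omega) (by omega)).eq]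
      simp only [mul_assoc]

theorem CoxA.card {s : ℕ → G} {m : ℕ} (h : CoxA s m) : CardLE (gen s m) (m + 1).factorial := by
  induction m with
  | zero => exact cardLE_gen_zero s
  | succ m ih =>
    obtain ⟨h1, h2⟩ := ih ⟨fun i hi => h.sq i (by omega), fun i hi => h.br i (by omega), fun i j a b => h.cm i j a (by omega)⟩
    have st : ∀ j < m + 1, ∀ x, (∃ i < m + 2, ∃ y ∈ gen s m, x = dsc s (m + 1 - i) i * y) →
        ∃ i < m + 2, ∃ y ∈ gen s m, s j * x = dsc s (m + 1 - i) i * y := by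
      rintro j hj _ ⟨i, hi, y, hy, rfl⟩
      rcases lt_trichotomy (j + 1) i with e | rfl | e
      · exact ⟨i, hi, s j * y, mul_mem (mem_gen s (by omega)) hy, by
          rw [← mul_assoc, (h.dA _ i e (by omega)).eq, mul_assoc]⟩
      · exact ⟨j, by omega, y, hy, by rw [show m + 1 - j = m + 1 - (j + 1) + 1 by omega, dsc, mul_assoc]⟩
      rcases (Nat.le_of_lt_succ e).lt_or_eq with e | rfl
      · obtain ⟨j, rfl⟩ := Nat.exists_eq_add_one_of_ne_zero (show j ≠ 0 by omega)
        exact ⟨i, hi, s j * y, mul_mem (mem_gen s (by omega)) hy, by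
          rw [← mul_assoc, h.dB _ i (by omega) (by omega) (by omega), mul_assoc]⟩
      · exact ⟨i + 1, by omega, y, hy, by
          rw [show m + 1 - i = m + 1 - (i + 1) + 1 by omega, dsc, mul_assoc, ← mul_assoc, h.sq i hj, one_mul]⟩
    have key := gen_induction (g := s) (m := m + 1) (P := fun x => ∃ i < m + 2, ∃ y ∈ gen s m, x = dsc s (m + 1 - i) i * y)
      ⟨m + 1, by omega, 1, one_mem _, by simp [dsc]⟩ st fun j hj => by
        rw [inv_eq_of_mul_eq_one_left (h.sq j hj)]; exact st j hj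
    choose f hf g hg e using key
    let F : gen s (m + 1) → Fin (m + 2) × gen s m := fun x => (⟨f x x.2, hf x x.2⟩, ⟨g x x.2, hg x x.2⟩)
    have hF : Function.Injective F := fun x y hxy => Subtype.ext (by
      rw [e x x.2, e y y.2, show f x x.2 = f y y.2 from congrArg (·.1.1) hxy, show g x x.2 = g y y.2 from congrArg (·.2.1) hxy])
    refine ⟨Finite.of_injective F hF, (Nat.card_le_card_of_injective F hF).trans ?_⟩
    rw [Nat.card_prod, Nat.card_eq_fintype_card, Fintype.card_fin, Nat.factorial_succ]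
    exact Nat.mul_le_mul_left _ h2

section
variable {α : Type*} [DecidableEq α]

theorem swap_comm_of {a b c d : α} (h1 : c ≠ a) (h2 : c ≠ b) (h3 : d ≠ a) (h4 : d ≠ b) : Commute (swap a b) (swap c d) := by
  rw [Commute, SemiconjBy, ← mul_inv_eq_iff_eq_mul, ← swap_apply_apply, swap_apply_of_ne_of_ne h1 h2,
    swap_apply_of_ne_of_ne h3 h4]

theorem swap_left {a b d : α} (h : a ≠ b) (h' : a ≠ d) (hc : Commute (swap a b) (swap a d)) : b = d := by
  have := congrArg (· a) hc.eq
  simp only [Perm.mul_apply, swap_apply_left] at this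
  by_contra e
  rw [swap_apply_of_ne_of_ne h'.symm (Ne.symm e), swap_apply_of_ne_of_ne h.symm e] at this
  exact e this.symm

theorem swap_disj {a b c d : α} (h : a ≠ b) (h' : c ≠ d) (hc : Commute (swap a b) (swap c d)) (hn : swap a b ≠ swap c d) :
    c ≠ a ∧ c ≠ b ∧ d ≠ a ∧ d ≠ b := by
  refine ⟨?_, ?_, ?_, ?_⟩ <;> rintro rfl <;> refine hn ?_
  · rw [swap_left h h' hc]
  · rw [swap_comm] at hc; rw [swap_comm, swap_left h.symm h' hc]
  · rw [swap_comm c] at hc; rw [swap_comm c, swap_left h h'.symm hc]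
  · rw [swap_comm c, swap_comm a] at hc; rw [swap_comm c, swap_comm a, swap_left h.symm h'.symm hc]

theorem coxA_swap {a : ℕ → α} {m : ℕ} (h : ∀ i ≤ m, ∀ j ≤ m, a i = a j → i = j) :
    CoxA (fun i => swap (a i) (a (i + 1))) m := by
  have n : ∀ i ≤ m, ∀ j ≤ m, i ≠ j → a i ≠ a j := fun i hi j hj e e' => e (h i hi j hj e')
  refine ⟨fun i _ => swap_mul_self _ _, fun i hi => ?_, fun i j h1 h2 => swap_comm_of ?_ ?_ ?_ ?_⟩
  · rw [swap_mul_swap_mul_swap (n _ (by omega) _ (by omega) (by omega)) (n _ (by omega) _ (by omega) (by omega)),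
      swap_comm (a i) (a (i + 1)), swap_comm (a (i + 1)) (a (i + 1 + 1)),
      swap_mul_swap_mul_swap (n _ (by omega) _ (by omega) (by omega)) (n _ (by omega) _ (by omega) (by omega)), swap_comm]
  all_goals exact n _ (by omega) _ (by omega) (by omega)

theorem string {τ : ℕ → Perm α} {m : ℕ} (h0 : ∀ i < m + 1, (τ i).IsSwap) (h1 : ∀ i < m, ¬ Commute (τ i) (τ (i + 1)))
    (h2 : ∀ i j, i + 1 < j → j < m + 1 → Commute (τ i) (τ j) ∧ τ i ≠ τ j) :
    ∃ a : ℕ → α, (∀ i ≤ m + 1, ∀ j ≤ m + 1, a i = a j → i = j) ∧ ∀ i < m + 1, τ i = swap (a i) (a (i + 1)) := by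
  induction m with
  | zero =>
    obtain ⟨x, y, e, e'⟩ := h0 0 (by omega)
    refine ⟨fun i => if i = 0 then x else y, fun i hi j hj => ?_, fun i hi => by simp [Nat.lt_one_iff.mp hi, e']⟩
    interval_cases i <;> interval_cases j <;> simp [e, e.symm]
  | succ m ih =>
    have ext : ∀ a : ℕ → α, (∀ i ≤ m + 1, ∀ j ≤ m + 1, a i = a j → i = j) → (∀ i < m + 1, τ i = swap (a i) (a (i + 1))) →
        ∀ v, a (m + 1) ≠ v → τ (m + 1) = swap (a (m + 1)) v → ∃ a : ℕ → α, (∀ i ≤ m + 1 + 1, ∀ j ≤ m + 1 + 1, a i = a j → i = j) ∧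
          ∀ i < m + 1 + 1, τ i = swap (a i) (a (i + 1)) := fun a a1 a2 v hv e => by
      have a3 : ∀ i ≤ m + 1, a i ≠ v := fun i hi => by
        rcases hi.lt_or_eq with hi | rfl
        · rcases (Nat.le_of_lt_succ hi).lt_or_eq with hi | rfl
          · have := h2 i (m + 1) (by omega) (by omega)
            rw [a2 i (by omega), e] at this
            exact (swap_disj (fun e => by have := a1 _ (by omega) _ (by omega) e; omega) hv this.1 this.2).2.2.1.symm
          · rintro rfl
            exact h1 i (by omega) (by rw [a2 i hi, e, swap_comm])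
        · exact hv
      refine ⟨Function.update a (m + 2) v, fun i hi j hj => ?_, fun i hi => ?_⟩
      · rcases hi.lt_or_eq with hi | rfl <;> rcases hj.lt_or_eq with hj | rfl
        · rw [Function.update_of_ne hi.ne, Function.update_of_ne hj.ne]; exact a1 i (by omega) j (by omega)
        · rw [Function.update_of_ne hi.ne, Function.update_self]; exact fun e => absurd e (a3 i (by omega))
        · rw [Function.update_of_ne hj.ne, Function.update_self]; exact fun e => absurd e.symm (a3 j (by omega))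
        · exact fun _ => rfl
      · rcases (Nat.le_of_lt_succ hi).lt_or_eq with hi | rfl
        · rw [Function.update_of_ne (by omega), Function.update_of_ne (by omega)]; exact a2 i hi
        · rw [Function.update_of_ne (by omega), Function.update_self]; exact e
    obtain ⟨a, a1, a2⟩ := ih (fun i hi => h0 i (by omega)) (fun i hi => h1 i (by omega)) fun i j a b => h2 i j a (by omega)
    obtain ⟨u, v, e, e'⟩ := h0 (m + 1) (by omega)
    by_cases c1 : u = a (m + 1)
    · exact ext a a1 a2 v (c1 ▸ e) (c1 ▸ e')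
    by_cases c2 : v = a (m + 1)
    · exact ext a a1 a2 u (c2 ▸ e.symm) (c2 ▸ e'.trans (swap_comm _ _))
    have c3 : u = a m ∨ v = a m := by
      by_contra hn
      push Not at hn
      exact h1 m (by omega) (by rw [a2 m (by omega), e']; exact swap_comm_of hn.1 c1 hn.2 c2)
    obtain _ | m := m
    · have b1 : ∀ i ≤ 0 + 1, ∀ j ≤ 0 + 1, a (1 - i) = a (1 - j) → i = j := fun i hi j hj e => by
        have := a1 _ (by omega) _ (by omega) e; omega
      have b2 : ∀ i < 0 + 1, τ i = swap (a (1 - i)) (a (1 - (i + 1))) := fun i hi => by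
        rw [Nat.lt_one_iff.mp hi, a2 0 (by omega), swap_comm]
      rcases c3 with rfl | rfl
      · exact ext _ b1 b2 v e e'
      · exact ext _ b1 b2 u e.symm (e'.trans (swap_comm _ _))
    · have := h2 m (m + 1 + 1) (by omega) (by omega)
      rw [a2 m (by omega), e'] at this
      have := swap_disj (fun e => by have := a1 _ (by omega) _ (by omega) e; omega) e this.1 this.2
      exact (c3.elim this.2.1 this.2.2.2).elim

end

/-- the standard string -/
def sw (m i : ℕ) : Perm (Fin (m + 1)) := swap (Fin.ofNat _ i) (Fin.ofNat _ (i + 1))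

theorem ofNat_inj (m : ℕ) : ∀ i ≤ m, ∀ j ≤ m, Fin.ofNat (m + 1) i = Fin.ofNat (m + 1) j → i = j := fun i hi j hj e => by
  have := congrArg Fin.val e
  rwa [Fin.val_ofNat, Fin.val_ofNat, Nat.mod_eq_of_lt (by omega), Nat.mod_eq_of_lt (by omega)] at this

theorem sw_isSwap {m i : ℕ} (h : i < m) : (sw m i).IsSwap :=
  ⟨_, _, fun e => by have := ofNat_inj m _ (by omega) _ (by omega) e; omega, rfl⟩

theorem gen_sw (m : ℕ) : gen (sw m) m = ⊤ := by
  rw [eq_top_iff]
  intro x _
  have : Submonoid.closure (Set.range fun i : Fin m => swap i.castSucc i.succ) ≤ (gen (sw m) m).toSubmonoid := by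
    rw [Submonoid.closure_le]
    rintro _ ⟨i, rfl⟩
    have := mem_gen (sw m) i.2
    rwa [sw, show Fin.ofNat (m + 1) i = i.castSucc from Fin.ext (Nat.mod_eq_of_lt (by omega)),
      show Fin.ofNat (m + 1) (i + 1) = i.succ from Fin.ext (Nat.mod_eq_of_lt (by omega))] at this
  exact this (Perm.mclosure_swap_castSucc_succ m ▸ Submonoid.mem_top x)

theorem CoxA.hom {s : ℕ → G} {m : ℕ} (h : CoxA s m) : ∃ φ : Perm (Fin (m + 1)) →* G, ∀ i < m, φ (sw m i) = s i := by
  have c := coxA_swap (ofNat_inj m)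
  obtain ⟨φ, h1, -⟩ := exists_hom_of_card (g := sw m) (h := s) (CoxA.card ⟨fun i hi => Prod.ext (c.sq i hi) (h.sq i hi),
    fun i hi => Prod.ext (c.br i hi) (h.br i hi), fun i j a b => Prod.ext (c.cm i j a b) (h.cm i j a b)⟩)
    (by rw [gen_sw]; simp [Fintype.card_perm])
  exact ⟨φ.comp ((MonoidHom.id _).codRestrict _ fun x => by rw [gen_sw]; trivial), h1⟩

theorem string_conj {m : ℕ} {τ : ℕ → Perm (Fin (m + 2))} (h0 : ∀ i < m + 1, (τ i).IsSwap)
    (h1 : ∀ i < m, ¬ Commute (τ i) (τ (i + 1))) (h2 : ∀ i j, i + 1 < j → j < m + 1 → Commute (τ i) (τ j) ∧ τ i ≠ τ j) :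
    ∃ g, ∀ i < m + 1, g * sw (m + 1) i * g⁻¹ = τ i := by
  obtain ⟨a, a1, a2⟩ := string h0 h1 h2
  refine ⟨Equiv.ofBijective (fun x => a x) (Finite.injective_iff_bijective.mp fun x y e =>
    Fin.ext (a1 _ (by omega) _ (by omega) e)), fun i hi => ?_⟩
  rw [sw, ← swap_apply_apply, a2 i hi]
  simp only [ofBijective_apply, Fin.val_ofNat]
  rw [Nat.mod_eq_of_lt (by omega), Nat.mod_eq_of_lt (by omega)]

theorem sw_nc {m i : ℕ} (h : i + 1 < m) : ¬ Commute (sw m i) (sw m (i + 1)) := fun hc => by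
  have n : ∀ i ≤ m, ∀ j ≤ m, i ≠ j → Fin.ofNat (m + 1) i ≠ Fin.ofNat (m + 1) j := fun i hi j hj e e' =>
    e (ofNat_inj m i hi j hj e')
  rw [sw, swap_comm] at hc
  exact n _ (by omega) _ (by omega) (by omega)
    (swap_left (n _ (by omega) _ (by omega) (by omega)) (n _ (by omega) _ (by omega) (by omega)) hc)

theorem sw_ne {m i j : ℕ} (h : i + 1 < j) (hj : j < m) : sw m i ≠ sw m j := fun e => by
  have n : ∀ i ≤ m, ∀ j ≤ m, i ≠ j → Fin.ofNat (m + 1) i ≠ Fin.ofNat (m + 1) j := fun i hi j hj e e' =>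
    e (ofNat_inj m i hi j hj e')
  have := congrArg (· (Fin.ofNat _ i)) e
  simp only [sw, swap_apply_left] at this
  rw [swap_apply_of_ne_of_ne (n _ (by omega) _ (by omega) (by omega)) (n _ (by omega) _ (by omega) (by omega))] at this
  exact n _ (by omega) _ (by omega) (by omega) this

theorem perm_ctr {m : ℕ} {σ : Perm (Fin (m + 3))} (h : ∀ a b, a ≠ b → Commute σ (swap a b)) : σ = 1 := by
  refine Equiv.ext fun a => ?_
  by_contra hn
  obtain ⟨b, h1, h2⟩ := Fin.exists_ne_and_ne_of_two_lt a (σ a) (by omega)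
  have := (h a b h1.symm).eq
  rw [← mul_inv_eq_iff_eq_mul, ← swap_apply_apply] at this
  have e := congrArg (· (σ a)) this
  simp only [swap_apply_left] at e
  rw [swap_apply_of_ne_of_ne (show σ a ≠ a from hn) h2.symm] at e
  exact h1 (σ.injective e)

/-- injectivity -/
theorem hom_inj {m : ℕ} (φ : Perm (Fin (m + 3)) →* G) (h1 : φ (sw (m + 2) 0) ≠ φ (sw (m + 2) 1))
    (h2 : 0 < m → φ (sw (m + 2) 0) ≠ φ (sw (m + 2) 2)) : Function.Injective φ := by
  rw [injective_iff_map_eq_one]
  refine fun σ hσ => perm_ctr fun a b hab => ?_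
  by_contra hn
  have e : φ (swap a b) = φ (swap (σ a) (σ b)) := by rw [swap_apply_apply]; simp [hσ]
  have e' : swap a b ≠ swap (σ a) (σ b) := fun e => hn (by
    rw [swap_apply_apply, eq_mul_inv_iff_mul_eq] at e; exact e.symm)
  have h3 : σ a ≠ σ b := σ.injective.ne hab
  generalize σ a = c, σ b = d at e e' h3
  have cj : ∀ {k : ℕ} (hk : k ≤ m + 3) (f : Fin k → Fin (m + 3)), Function.Injective f →
      ∃ g : Perm (Fin (m + 3)), ∀ i (hi : i < k), g (Fin.ofNat _ i) = f ⟨i, hi⟩ := fun hk f hf => by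
    obtain ⟨g, hg⟩ := Perm.exists_extending_pair (Fin.castLE hk) f (Fin.castLE_injective hk) hf
    exact ⟨g, fun i hi => by rw [← hg]; congr 1; exact Fin.ext (Nat.mod_eq_of_lt (by omega))⟩
  by_cases hc : Commute (swap a b) (swap c d)
  · obtain ⟨b1, b2, b3, b4⟩ := swap_disj hab h3 hc e'
    have i4 : Function.Injective ![a, b, c, d] := fun i j => by
      fin_cases i <;> fin_cases j <;> simp [hab, h3, b1, b2, b3, b4, hab.symm, h3.symm, b1.symm, b2.symm, b3.symm, b4.symm]
    have h4 : 4 ≤ m + 3 := by simpa using Fintype.card_le_of_injective _ i4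
    obtain ⟨g, hg⟩ := cj h4 _ i4
    refine h2 (by omega) (mul_left_cancel (a := φ g) (mul_right_cancel (b := φ g⁻¹) ?_))
    rw [← map_mul, ← map_mul, ← map_mul, ← map_mul, sw, sw, ← swap_apply_apply, ← swap_apply_apply, hg 0 (by omega),
      hg 1 (by omega), hg 2 (by omega), hg 3 (by omega)]
    exact e
  · obtain ⟨f, f1, f2⟩ := string (τ := fun i => if i = 0 then swap a b else swap c d) (m := 1)
      (fun i _ => by split_ifs; exacts [⟨_, _, hab, rfl⟩, ⟨_, _, h3, rfl⟩]) (fun i hi => by simpa [Nat.lt_one_iff.mp hi] using hc)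
      fun i j a b => by omega
    obtain ⟨g, hg⟩ := cj (k := 3) (by omega) (fun i => f i) fun i j e => Fin.ext (f1 _ (by omega) _ (by omega) e)
    refine h1 (mul_left_cancel (a := φ g) (mul_right_cancel (b := φ g⁻¹) ?_))
    rw [← map_mul, ← map_mul, ← map_mul, ← map_mul, sw, sw, ← swap_apply_apply, ← swap_apply_apply, hg 0 (by omega),
      hg 1 (by omega), hg 2 (by omega)]
    exact (congrArg φ (f2 0 (by omega))).symm.trans (e.trans (congrArg φ (f2 1 (by omega))))

end Cfsg.Agent.PC
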