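import Mathlib.Algebra.BigOperators.Intervals
import Mathlib.Algebra.Order.BigOperators.Group.Finset
import Mathlib.Tactic.Ring
import Mathlib.Tactic.Linarith

/-! Kernel-friendly loops and lookup tables.  `upTo f n` is `∑ i < n, f i`, evaluated with shallow recursion. -/

set_option autoImplicit false

namespace Cfsg.Agent.PC

open Finset

/-- sum of 16 consecutive values -/
def b16 (f : ℕ → ℕ) (s : ℕ) : ℕ :=
  Nat.add (Nat.add (Nat.add (Nat.add (f s) (f (Nat.add s (nat_lit 1)))) (Nat.add (f (Nat.add s (nat_lit 2))) (f (Nat.add s (nat_lit 3)))))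
    (Nat.add (Nat.add (f (Nat.add s (nat_lit 4))) (f (Nat.add s (nat_lit 5)))) (Nat.add (f (Nat.add s (nat_lit 6))) (f (Nat.add s (nat_lit 7))))))
   (Nat.add (Nat.add (Nat.add (f (Nat.add s (nat_lit 8))) (f (Nat.add s (nat_lit 9)))) (Nat.add (f (Nat.add s (nat_lit 10))) (f (Nat.add s (nat_lit 11)))))
    (Nat.add (Nat.add (f (Nat.add s (nat_lit 12))) (f (Nat.add s (nat_lit 13)))) (Nat.add (f (Nat.add s (nat_lit 14))) (f (Nat.add s (nat_lit 15))))))

theorem b16_eq (f : ℕ → ℕ) (s : ℕ) : b16 f s = ∑ i ∈ range 16, f (s + i) := by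
  simp only [b16, Finset.sum_range_succ, Finset.sum_range_zero, Nat.add_eq]
  simp only [Nat.add_zero]
  ring

/-- sum of `16 * 2^d` consecutive values -/
noncomputable def blk (f : ℕ → ℕ) (d : ℕ) : ℕ → ℕ :=
  Nat.rec (motive := fun _ => ℕ → ℕ) (b16 f)
    (fun d ih s => Nat.add (ih s) (ih (Nat.add s (Nat.shiftLeft (nat_lit 16) d)))) d

theorem blk_eq (f : ℕ → ℕ) (d s : ℕ) : blk f d s = ∑ i ∈ range (16 * 2 ^ d), f (s + i) := by
  induction d generalizing s with
  | zero => exact b16_eq f s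
  | succ d ih =>
    have h : blk f (d + 1) s = blk f d s + blk f d (s + Nat.shiftLeft 16 d) := rfl
    have h2 : Nat.shiftLeft 16 d = 16 * 2 ^ d := Nat.shiftLeft_eq 16 d
    rw [h, ih, ih, h2, show 16 * 2 ^ (d + 1) = 16 * 2 ^ d + 16 * 2 ^ d by ring, Finset.sum_range_add]
    simp only [add_assoc]

/-- plain linear sum (for short ranges only) -/
noncomputable def lin (f : ℕ → ℕ) (s n : ℕ) : ℕ :=
  Nat.rec (nat_lit 0) (fun i ih => Nat.add ih (f (Nat.add s i))) n

theorem lin_eq (f : ℕ → ℕ) (s n : ℕ) : lin f s n = ∑ i ∈ range n, f (s + i) := by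
  induction n with
  | zero => rfl
  | succ n ih =>
    have h : lin f s (n + 1) = lin f s n + f (s + n) := rfl
    rw [h, ih, Finset.sum_range_succ]

/-- `fuel` halvings: sum over `[s, s + 16 * 2^d * q)` -/
noncomputable def bits (f : ℕ → ℕ) (fuel : ℕ) : ℕ → ℕ → ℕ → ℕ :=
  Nat.rec (motive := fun _ => ℕ → ℕ → ℕ → ℕ) (fun d s q => lin f s (Nat.mul (Nat.shiftLeft (nat_lit 16) d) q))
    (fun _ ih d s q => Nat.rec (nat_lit 0) (fun _ _ =>
      Nat.rec (ih (Nat.add d (nat_lit 1)) s (Nat.div q (nat_lit 2)))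
        (fun _ _ => Nat.add (blk f d s)
          (ih (Nat.add d (nat_lit 1)) (Nat.add s (Nat.shiftLeft (nat_lit 16) d)) (Nat.div q (nat_lit 2))))
        (Nat.mod q (nat_lit 2))) q) fuel

theorem bits_eq (f : ℕ → ℕ) (fuel d s q : ℕ) :
    bits f fuel d s q = ∑ i ∈ range (16 * 2 ^ d * q), f (s + i) := by
  have h2 : ∀ d, Nat.shiftLeft 16 d = 16 * 2 ^ d := fun d => Nat.shiftLeft_eq 16 d
  induction fuel generalizing d s q with
  | zero =>
    have h : bits f 0 d s q = lin f s (Nat.shiftLeft 16 d * q) := rfl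
    rw [h, lin_eq, h2]
  | succ fuel ih =>
    rcases q with _ | q
    · have h : bits f (fuel + 1) d s 0 = 0 := rfl
      simp [h]
    · have h : bits f (fuel + 1) d s (q + 1) = Nat.rec (motive := fun _ => ℕ) (bits f fuel (d + 1) s ((q + 1) / 2))
        (fun _ _ => blk f d s + bits f fuel (d + 1) (s + Nat.shiftLeft 16 d) ((q + 1) / 2)) ((q + 1) % 2) := rfl
      rw [h]
      rcases Nat.mod_two_eq_zero_or_one (q + 1) with h0 | h1
      · rw [h0]
        show bits f fuel (d + 1) s ((q + 1) / 2) = _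
        rw [ih]
        have : 16 * 2 ^ (d + 1) * ((q + 1) / 2) = 16 * 2 ^ d * (q + 1) := by
          have : q + 1 = 2 * ((q + 1) / 2) := by omega
          conv_rhs => rw [this]
          ring
        rw [this]
      · rw [h1]
        show blk f d s + bits f fuel (d + 1) (s + Nat.shiftLeft 16 d) ((q + 1) / 2) = _
        rw [ih, blk_eq, h2]
        have : 16 * 2 ^ d * (q + 1) = 16 * 2 ^ d + 16 * 2 ^ (d + 1) * ((q + 1) / 2) := by
          have : q + 1 = 2 * ((q + 1) / 2) + 1 := by omega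
          conv_lhs => rw [this]
          ring
        rw [this, Finset.sum_range_add]
        simp only [add_assoc]

/-- `∑ i ∈ [s, s + n), f i` -/
noncomputable def rng (f : ℕ → ℕ) (s n : ℕ) : ℕ :=
  Nat.add (lin f s (Nat.mod n (nat_lit 16)))
    (bits f (nat_lit 40) (nat_lit 0) (Nat.add s (Nat.mod n (nat_lit 16))) (Nat.div n (nat_lit 16)))

theorem rng_eq (f : ℕ → ℕ) (s n : ℕ) : rng f s n = ∑ i ∈ range n, f (s + i) := by
  have h : rng f s n = lin f s (n % 16) + bits f 40 0 (s + n % 16) (n / 16) := rfl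
  rw [h, lin_eq, bits_eq]
  have : n = n % 16 + 16 * 2 ^ 0 * (n / 16) := by omega
  conv_rhs => rw [this]
  rw [Finset.sum_range_add]
  simp only [add_assoc]

theorem rng_zero {f : ℕ → ℕ} {s n : ℕ} (h : rng f s n = 0) : ∀ i, s ≤ i → i < s + n → f i = 0 := by
  intro i h1 h2
  rw [rng_eq, Finset.sum_eq_zero_iff] at h
  have := h (i - s) (by simp; omega)
  rwa [show s + (i - s) = i by omega] at this

/-- `∑ i < n, f i` -/
noncomputable def upTo (f : ℕ → ℕ) (n : ℕ) : ℕ := rng f (nat_lit 0) n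

theorem upTo_eq (f : ℕ → ℕ) (n : ℕ) : upTo f n = ∑ i ∈ range n, f i := by
  have h : upTo f n = rng f 0 n := rfl
  rw [h, rng_eq]; simp

theorem upTo_zero {f : ℕ → ℕ} {n : ℕ} (h : upTo f n = 0) : ∀ i < n, f i = 0 := by
  intro i hi
  rw [upTo_eq, Finset.sum_eq_zero_iff] at h
  exact h i (by simpa using hi)

/-- glue two checked ranges -/
theorem all_lt_add {P : ℕ → Prop} {f : ℕ → ℕ} {a n : ℕ} (hf : ∀ i, f i = 0 → P i) (h1 : ∀ i < a, P i)
    (h2 : rng f a n = 0) : ∀ i < a + n, P i := by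
  intro i hi
  by_cases h : i < a
  · exact h1 i h
  · exact hf i (rng_zero h2 i (by omega) hi)

theorem zero_lt_add {f : ℕ → ℕ} {a n b : ℕ} (h1 : ∀ i < a, f i = 0)
    (h2 : Nat.beq (rng f a n) (nat_lit 0) = true) (hb : b = a + n) : ∀ i < b, f i = 0 := by
  subst hb
  exact all_lt_add (fun _ h => h) h1 (Nat.eq_of_beq_eq_true h2)

theorem zero_lt_zero (f : ℕ → ℕ) : ∀ i < 0, f i = 0 := fun _ h => absurd h (Nat.not_lt_zero _)

theorem upTo_beq {f : ℕ → ℕ} {n : ℕ} (h : Nat.beq (upTo f n) (nat_lit 0) = true) : ∀ i < n, f i = 0 :=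
  upTo_zero (Nat.eq_of_beq_eq_true h)

/-! ### tables -/

/-- binary tree of numbers; `get` reads the index from its low bit up -/
inductive TN
  | leaf (n : ℕ)
  | node (l r : TN)

noncomputable def TN.get (t : TN) : ℕ → ℕ :=
  TN.rec (motive := fun _ => ℕ → ℕ) (fun n _ => n)
    (fun _ _ ih1 ih2 i => Nat.rec (ih1 (Nat.div i (nat_lit 2))) (fun _ _ => ih2 (Nat.div i (nat_lit 2)))
      (Nat.mod i (nat_lit 2))) t

/-- binary tree of lists of numbers -/
inductive TL
  | leaf (l : List ℕ)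
  | node (l r : TL)

noncomputable def TL.get (t : TL) : ℕ → List ℕ :=
  TL.rec (motive := fun _ => ℕ → List ℕ) (fun n _ => n)
    (fun _ _ ih1 ih2 i => Nat.rec (ih1 (Nat.div i (nat_lit 2))) (fun _ _ => ih2 (Nat.div i (nat_lit 2)))
      (Nat.mod i (nat_lit 2))) t

/-- one-level packed table: entry `i` of width `w` bits, `mask = 2^w - 1` -/
def get1 (t w mask i : ℕ) : ℕ := Nat.land (Nat.shiftRight t (Nat.mul w i)) mask

/-- two-level packed table: chunks of 64 entries of width `w` bits -/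
noncomputable def get2 (t : TN) (w mask i : ℕ) : ℕ :=
  Nat.land (Nat.shiftRight (Nat.rec (nat_lit 0) (fun m _ => t.get m)
    (Nat.add (Nat.shiftRight i (nat_lit 6)) (nat_lit 1))) (Nat.mul w (Nat.land i (nat_lit 63)))) mask

/-! ### error terms: each is `0` exactly when the named relation holds -/

theorem add_eq_zero' {a b : ℕ} (h : Nat.add a b = 0) : a = 0 ∧ b = 0 := Nat.add_eq_zero_iff.mp h
theorem xor_eq_zero' {a b : ℕ} (h : Nat.xor a b = 0) : a = b := by
  have h' : a ^^^ b = 0 := h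
  have h2 : a ^^^ (a ^^^ b) = a ^^^ 0 := by rw [h']
  rw [← Nat.xor_assoc, Nat.xor_self, Nat.zero_xor, Nat.xor_zero] at h2
  exact h2.symm
theorem sub_eq_zero' {a b : ℕ} (h : Nat.sub a b = 0) : a ≤ b := Nat.sub_eq_zero_iff_le.mp h
theorem mul_eq_zero' {a b : ℕ} (h : Nat.mul a b = 0) : a = 0 ∨ b = 0 := Nat.mul_eq_zero.mp h

/-- `0` iff `a < b` -/
def ltE (a b : ℕ) : ℕ := Nat.sub (Nat.add a (nat_lit 1)) b

theorem ltE_zero {a b : ℕ} (h : ltE a b = 0) : a < b := sub_eq_zero' h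

/-- `1` if `a = b`, else `0` -/
def eqI (a b : ℕ) : ℕ := Nat.sub (nat_lit 1) (Nat.xor a b)

theorem eqI_eq (a b : ℕ) : eqI a b = if a = b then 1 else 0 := by
  unfold eqI
  split_ifs with h
  · subst h
    have : Nat.xor a a = 0 := Nat.xor_self a
    rw [this]
  · have : Nat.xor a b ≠ 0 := fun h' => h (xor_eq_zero' h')
    show 1 - Nat.xor a b = 0
    omega

end Cfsg.Agent.PC
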