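import Mathlib.GroupTheory.GroupAction.Quotient
import Mathlib.GroupTheory.Index
import Mathlib.GroupTheory.OrderOfElement
import Mathlib.Tactic.Group
import Cfsg.Agent.Lib.PermCert.Loop

/-! Words in a family of group elements, their traces through tables, straight-line programs. -/

set_option autoImplicit false

namespace Cfsg.Agent.PC

section Words
variable {G : Type*} [Group G]

/-- value of a word; the FIRST letter acts first: `ev g [a, b] = g b * g a` -/
def ev (g : ℕ → G) : List ℕ → G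
  | [] => 1
  | j :: w => ev g w * g j

@[simp] theorem ev_nil (g : ℕ → G) : ev g [] = 1 := rfl
@[simp] theorem ev_cons (g : ℕ → G) (j : ℕ) (w : List ℕ) : ev g (j :: w) = ev g w * g j := rfl

theorem ev_append (g : ℕ → G) (u v : List ℕ) : ev g (u ++ v) = ev g v * ev g u := by
  induction u with
  | nil => simp
  | cons j u ih => simp [ih, mul_assoc]

theorem ev_map {H : Type*} [Group H] (φ : G →* H) (g : ℕ → G) (w : List ℕ) :
    φ (ev g w) = ev (fun j => φ (g j)) w := by
  induction w with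
  | nil => simp
  | cons j u ih => simp [ih]

theorem ev_comp (g : ℕ → G) (σ : ℕ → ℕ) (w : List ℕ) :
    ev (fun j => g (σ j)) w = ev g (w.map σ) := by
  induction w with
  | nil => simp
  | cons j u ih => simp [ih]

theorem ev_congr {g g' : ℕ → G} {w : List ℕ} (h : ∀ j ∈ w, g j = g' j) : ev g w = ev g' w := by
  induction w with
  | nil => simp
  | cons j u ih =>
    simp only [ev_cons]
    rw [ih (fun i hi => h i (List.mem_cons_of_mem _ hi)), h j List.mem_cons_self]

/-- `k`-th power of a word -/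
def wpow (w : List ℕ) : ℕ → List ℕ
  | 0 => []
  | k + 1 => w ++ wpow w k

theorem ev_wpow (g : ℕ → G) (w : List ℕ) (k : ℕ) : ev g (wpow w k) = ev g w ^ k := by
  induction k with
  | zero => simp [wpow]
  | succ k ih => simp [wpow, ev_append, ih, pow_succ]

/-- substitute words for letters -/
theorem ev_flatMap (g : ℕ → G) (W : ℕ → List ℕ) (w : List ℕ) :
    ev (fun j => ev g (W j)) w = ev g (w.flatMap W) := by
  induction w with
  | nil => simp
  | cons j u ih => simp [ih, ev_append]

/-- all letters below `m` (error term) -/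
noncomputable def lettE (m : ℕ) (w : List ℕ) : ℕ :=
  List.rec (nat_lit 0) (fun j _ ih => Nat.add (ltE j m) ih) w

theorem lettE_zero {m : ℕ} {w : List ℕ} (h : lettE m w = 0) : ∀ j ∈ w, j < m := by
  induction w with
  | nil => simp
  | cons j u ih =>
    have h' : Nat.add (ltE j m) (lettE m u) = 0 := h
    obtain ⟨h1, h2⟩ := add_eq_zero' h'
    intro i hi
    rcases List.mem_cons.mp hi with rfl | hi
    · exact ltE_zero h1
    · exact ih h2 i hi

/-- the letters below `m` are closed under a formal inversion -/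
def InvOK (g : ℕ → G) (inv : ℕ → ℕ) (m : ℕ) : Prop := ∀ j < m, inv j < m ∧ g (inv j) = (g j)⁻¹

/-- formal inverse of a word -/
def invw (inv : ℕ → ℕ) (w : List ℕ) : List ℕ := (w.map inv).reverse

theorem ev_invw {g : ℕ → G} {inv : ℕ → ℕ} {w : List ℕ} (h : ∀ j ∈ w, g (inv j) = (g j)⁻¹) :
    ev g (invw inv w) = (ev g w)⁻¹ := by
  induction w with
  | nil => simp [invw]
  | cons j u ih =>
    have ih' := ih (fun i hi => h i (List.mem_cons_of_mem _ hi))
    simp only [invw, List.map_cons, List.reverse_cons, ev_append] at ih' ⊢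
    simp [ih', h j List.mem_cons_self]

theorem ev_rotate {g : ℕ → G} {w : List ℕ} (h : ev g w = 1) (s : ℕ) : ev g (w.drop s ++ w.take s) = 1 := by
  have h1 : ev g (w.take s ++ w.drop s) = 1 := by rwa [List.take_append_drop]
  rw [ev_append] at h1 ⊢
  exact mul_eq_one_comm.mp h1

/-- the subgroup generated by the first `m` letters -/
def gen (g : ℕ → G) (m : ℕ) : Subgroup G := Subgroup.closure (g '' Set.Iio m)

theorem mem_gen (g : ℕ → G) {m j : ℕ} (h : j < m) : g j ∈ gen g m :=
  Subgroup.subset_closure ⟨j, h, rfl⟩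

theorem ev_mem {g : ℕ → G} {H : Subgroup G} {w : List ℕ} (h : ∀ j ∈ w, g j ∈ H) : ev g w ∈ H := by
  induction w with
  | nil => exact H.one_mem
  | cons j u ih =>
    exact H.mul_mem (ih fun i hi => h i (List.mem_cons_of_mem _ hi)) (h j List.mem_cons_self)

theorem ev_mem_gen (g : ℕ → G) {m : ℕ} {w : List ℕ} (h : ∀ j ∈ w, j < m) : ev g w ∈ gen g m :=
  ev_mem fun j hj => mem_gen g (h j hj)

theorem gen_le {g : ℕ → G} {m : ℕ} {H : Subgroup G} (h : ∀ j < m, g j ∈ H) : gen g m ≤ H := by
  rw [gen, Subgroup.closure_le]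
  rintro _ ⟨j, hj, rfl⟩
  exact h j hj

theorem gen_mono (g : ℕ → G) {a b : ℕ} (h : a ≤ b) : gen g a ≤ gen g b :=
  gen_le fun _ hj => mem_gen g (lt_of_lt_of_le hj h)

theorem gen_zero (g : ℕ → G) : gen g 0 = ⊥ := le_bot_iff.mp (gen_le fun _ h => absurd h (Nat.not_lt_zero _))

theorem gen_congr {g g' : ℕ → G} {m : ℕ} (h : ∀ j < m, g j = g' j) : gen g m = gen g' m :=
  le_antisymm (gen_le fun j hj => h j hj ▸ mem_gen g' hj) (gen_le fun j hj => (h j hj).symm ▸ mem_gen g hj)

theorem gen_map {H : Type*} [Group H] (φ : G →* H) (g : ℕ → G) (m : ℕ) :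
    (gen g m).map φ = gen (fun j => φ (g j)) m := by
  rw [gen, gen, MonoidHom.map_closure, Set.image_image]

theorem gen_induction {g : ℕ → G} {m : ℕ} {P : G → Prop} (h1 : P 1)
    (hl : ∀ j < m, ∀ x, P x → P (g j * x)) (hi : ∀ j < m, ∀ x, P x → P ((g j)⁻¹ * x)) :
    ∀ x ∈ gen g m, P x := by
  intro x hx
  refine Subgroup.closure_induction_left (p := fun x _ => P x) h1 ?_ ?_ hx
  · rintro _ ⟨j, hj, rfl⟩ y _ hy; exact hl j hj y hy
  · rintro _ ⟨j, hj, rfl⟩ y _ hy; exact hi j hj y hy

/-- free reduction with a stack (the stack holds the letters already read, last read first) -/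
def redAux (inv : ℕ → ℕ) : List ℕ → List ℕ → List ℕ
  | [], st => st
  | j :: w, [] => redAux inv w [j]
  | j :: w, i :: st => if j = inv i then redAux inv w st else redAux inv w (j :: i :: st)

theorem ev_redAux {g : ℕ → G} {inv : ℕ → ℕ} {m : ℕ} (hi : InvOK g inv m) (w st : List ℕ)
    (hw : ∀ j ∈ w, j < m) (hs : ∀ j ∈ st, j < m) :
    ev g (redAux inv w st).reverse = ev g w * ev g st.reverse := by
  induction w generalizing st with
  | nil => simp [redAux]
  | cons j w ih =>
    have hw' : ∀ i ∈ w, i < m := fun i hi => hw i (List.mem_cons_of_mem _ hi)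
    have hj := hw j List.mem_cons_self
    rcases st with _ | ⟨i, st⟩
    · simp only [redAux]
      rw [ih _ hw' (by simpa using hj)]
      simp
    · simp only [redAux]
      split_ifs with h
      · rw [ih _ hw' (fun k hk => hs k (List.mem_cons_of_mem _ hk))]
        simp only [ev_cons, List.reverse_cons, ev_append, ev_nil, one_mul]
        rw [h, (hi i (hs i List.mem_cons_self)).2]
        group
      · rw [ih _ hw' (by
          intro k hk
          rcases List.mem_cons.mp hk with rfl | hk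
          · exact hj
          · exact hs k hk)]
        simp only [ev_cons, List.reverse_cons, ev_append, ev_nil, one_mul]
        group

/-- freely reduced form -/
def red (inv : ℕ → ℕ) (w : List ℕ) : List ℕ := (redAux inv w []).reverse

theorem ev_red {g : ℕ → G} {inv : ℕ → ℕ} {m : ℕ} (hi : InvOK g inv m) {w : List ℕ}
    (hw : ∀ j ∈ w, j < m) : ev g (red inv w) = ev g w := by
  rw [red, ev_redAux hi w [] hw (by simp)]; simp

/-- straight-line program: letters below `m0` are `g0`, letter `j ≥ m0` is the word `W j` in earlier letters -/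
noncomputable def slp (g0 : ℕ → G) (m0 : ℕ) (W : ℕ → List ℕ) (j : ℕ) : G :=
  Nat.strongRec (motive := fun _ => G)
    (fun j ih => if j < m0 then g0 j else ev (fun i => if h : i < j then ih i h else 1) (W j)) j

theorem slp_lt (g0 : ℕ → G) {m0 : ℕ} (W : ℕ → List ℕ) {j : ℕ} (h : j < m0) : slp g0 m0 W j = g0 j := by
  rw [slp, Nat.strongRec_eq, if_pos h]

theorem slp_ge (g0 : ℕ → G) {m0 : ℕ} (W : ℕ → List ℕ) {j : ℕ} (h : m0 ≤ j) (hW : ∀ i ∈ W j, i < j) :
    slp g0 m0 W j = ev (slp g0 m0 W) (W j) := by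
  rw [slp, Nat.strongRec_eq, if_neg (by omega)]
  apply ev_congr
  intro i hi
  rw [dif_pos (hW i hi)]
  rfl

theorem slp_mem (g0 : ℕ → G) {m0 : ℕ} (W : ℕ → List ℕ) {H : Subgroup G} (h : ∀ j < m0, g0 j ∈ H) (j : ℕ) :
    slp g0 m0 W j ∈ H := by
  induction j using Nat.strong_induction_on with
  | _ j ih =>
    rw [slp, Nat.strongRec_eq]
    split_ifs with h1
    · exact h j h1
    · apply ev_mem
      intro i _
      split_ifs with h2
      · exact ih i h2
      · exact H.one_mem

theorem slp_map {H : Type*} [Group H] (φ : G →* H) (g0 : ℕ → G) (m0 : ℕ) (W : ℕ → List ℕ) (j : ℕ) :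
    φ (slp g0 m0 W j) = slp (fun i => φ (g0 i)) m0 W j := by
  induction j using Nat.strong_induction_on with
  | _ j ih =>
    rw [slp, slp, Nat.strongRec_eq, Nat.strongRec_eq]
    split_ifs with h1
    · rfl
    · rw [ev_map]
      apply ev_congr
      intro i _
      split_ifs with h2
      · exact ih i h2
      · exact map_one φ

end Words

section Rep
variable {G : Type*} [Group G] {X : Type*} [MulAction G X]

/-- `a` acts on the labelled points `pt i`, `i < N`, as the table `f` -/
def Rep (pt : ℕ → X) (N : ℕ) (a : G) (f : ℕ → ℕ) : Prop := ∀ i < N, f i < N ∧ a • pt i = pt (f i)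

/-- the letters below `m` act as the tables `T j` -/
def Reps (pt : ℕ → X) (N : ℕ) (g : ℕ → G) (T : ℕ → ℕ → ℕ) (m : ℕ) : Prop := ∀ j < m, Rep pt N (g j) (T j)

/-- trace a word through tables -/
noncomputable def tr (T : ℕ → ℕ → ℕ) (w : List ℕ) : ℕ → ℕ :=
  List.rec (motive := fun _ => ℕ → ℕ) (fun c => c) (fun j _ ih c => ih (T j c)) w

theorem tr_nil (T : ℕ → ℕ → ℕ) (c : ℕ) : tr T [] c = c := rfl
theorem tr_cons (T : ℕ → ℕ → ℕ) (j : ℕ) (w : List ℕ) (c : ℕ) : tr T (j :: w) c = tr T w (T j c) := rfl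

variable {pt : ℕ → X} {N : ℕ} {g : ℕ → G} {T : ℕ → ℕ → ℕ} {m : ℕ}

theorem Rep.one : Rep pt N (1 : G) (fun i => i) := fun _ hi => ⟨hi, one_smul _ _⟩

theorem Rep.mul {a b : G} {f f' : ℕ → ℕ} (h : Rep pt N a f) (h' : Rep pt N b f') :
    Rep pt N (a * b) (fun i => f (f' i)) := fun i hi => by
  obtain ⟨h1, h2⟩ := h' i hi
  obtain ⟨h3, h4⟩ := h _ h1
  exact ⟨h3, by rw [mul_smul, h2, h4]⟩

theorem Rep.congr {a : G} {f f' : ℕ → ℕ} (h : Rep pt N a f) (he : ∀ i < N, f i = f' i) : Rep pt N a f' :=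
  fun i hi => he i hi ▸ h i hi

theorem Rep.inv {a : G} {f f' : ℕ → ℕ} (h : Rep pt N a f) (he : ∀ i < N, f' i < N ∧ f (f' i) = i) :
    Rep pt N a⁻¹ f' := fun i hi => by
  obtain ⟨h1, h2⟩ := he i hi
  refine ⟨h1, ?_⟩
  rw [inv_smul_eq_iff, (h _ h1).2, h2]

theorem Reps.mono (h : Reps pt N g T m) {m' : ℕ} (hm : m' ≤ m) : Reps pt N g T m' :=
  fun j hj => h j (lt_of_lt_of_le hj hm)

theorem Reps.comp (h : Reps pt N g T m) {σ : ℕ → ℕ} {m' : ℕ} (hm : ∀ j < m', σ j < m) :
    Reps pt N (fun j => g (σ j)) (fun j => T (σ j)) m' :=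
  fun j hj => h _ (hm j hj)

theorem Reps.ev (h : Reps pt N g T m) {w : List ℕ} (hw : ∀ j ∈ w, j < m) : Rep pt N (ev g w) (tr T w) := by
  induction w with
  | nil => exact Rep.one
  | cons j u ih =>
    exact (ih fun i hi => hw i (List.mem_cons_of_mem _ hi)).mul (h j (hw j List.mem_cons_self))

/-- error term: the table `T j` is the trace of the word `W j` (letters below `j`) -/
noncomputable def slpE (T : ℕ → ℕ → ℕ) (W : ℕ → List ℕ) (N j : ℕ) : ℕ :=
  Nat.add (lettE j (W j)) (upTo (fun c => Nat.xor (tr T (W j) c) (T j c)) N)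

theorem Reps.slp {m0 : ℕ} {W : ℕ → List ℕ} (h : Reps pt N g T m0)
    (hW : ∀ j, m0 ≤ j → j < m → slpE T W N j = 0) : Reps pt N (slp g m0 W) T m := by
  intro j
  induction j using Nat.strong_induction_on with
  | _ j ih =>
    intro hj
    by_cases h0 : j < m0
    · rw [slp_lt g W h0]; exact h j h0
    · obtain ⟨h1, h2⟩ := add_eq_zero' (hW j (by omega) hj)
      have h3 := lettE_zero h1
      rw [slp_ge g W (by omega) h3]
      have : Reps pt N (PC.slp g m0 W) T j := fun i hi => ih i hi (by omega)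
      exact (this.ev h3).congr fun c hc => xor_eq_zero' (upTo_zero h2 c hc)

/-- an element acting as the identity table fixes every labelled point -/
theorem Rep.smul_eq {a : G} {f : ℕ → ℕ} (h : Rep pt N a f) {i : ℕ} (hi : i < N) (hf : f i = i) :
    a • pt i = pt i := by rw [(h i hi).2, hf]

theorem Rep.eq_of_faithful [FaithfulSMul G X] (hs : ∀ x, ∃ i < N, pt i = x) {a b : G} {f f' : ℕ → ℕ}
    (h : Rep pt N a f) (h' : Rep pt N b f') (he : ∀ i < N, f i = f' i) : a = b := by
  apply eq_of_smul_eq_smul (α := X)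
  intro x
  obtain ⟨i, hi, rfl⟩ := hs x
  rw [(h i hi).2, (h' i hi).2, he i hi]

/-- every element of the generated group keeps the labelled points labelled, if the labelling is injective -/
theorem Reps.smul_mem (h : Reps pt N g T m) (hinj : ∀ i < N, ∀ j < N, pt i = pt j → i = j) {P : ℕ → Prop}
    (hP : ∀ j < m, ∀ c < N, P c → P (T j c)) :
    ∀ a ∈ gen g m, ∀ c < N, P c → ∃ d < N, P d ∧ a • pt c = pt d := by
  have key : ∀ j < m, ∀ d < N, P d → ∃ c < N, P c ∧ T j c = d := by
    intro j hj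
    let S : Set ℕ := {c | c < N ∧ P c}
    have hS : S.Finite := (Set.finite_lt_nat N).subset fun c hc => hc.1
    have hmaps : Set.MapsTo (T j) S S := fun c hc => ⟨(h j hj c hc.1).1, hP j hj c hc.1 hc.2⟩
    have hi : Set.InjOn (T j) S := by
      intro c hc c' hc' he
      apply hinj c hc.1 c' hc'.1
      have e1 := (h j hj c hc.1).2
      have e2 := (h j hj c' hc'.1).2
      rw [he, ← e2] at e1
      exact MulAction.injective _ e1
    have hsurj := (hS.injOn_iff_bijOn_of_mapsTo hmaps).mp hi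
    intro d hd hPd
    obtain ⟨c, hc, he⟩ := hsurj.surjOn (show d ∈ S from ⟨hd, hPd⟩)
    exact ⟨c, hc.1, hc.2, he⟩
  intro a ha
  refine gen_induction (P := fun a => ∀ c < N, P c → ∃ d < N, P d ∧ a • pt c = pt d) ?_ ?_ ?_ a ha
  · intro c hc hPc; exact ⟨c, hc, hPc, one_smul _ _⟩
  · intro j hj x hx c hc hPc
    obtain ⟨d, hd, hPd, he⟩ := hx c hc hPc
    exact ⟨T j d, (h j hj d hd).1, hP j hj d hd hPd, by rw [mul_smul, he, (h j hj d hd).2]⟩
  · intro j hj x hx c hc hPc
    obtain ⟨d, hd, hPd, he⟩ := hx c hc hPc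
    obtain ⟨d', hd', hPd', he'⟩ := key j hj d hd hPd
    refine ⟨d', hd', hPd', ?_⟩
    rw [mul_smul, he, inv_smul_eq_iff, (h j hj d' hd').2, he']

end Rep

end Cfsg.Agent.PC
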