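import Mathlib.Order.Interval.Finset.Nat
import Cfsg.Agent.Lib.PermCert.Word

/-! Coset-enumeration certificates.

Entry `E (c * m + j)` holds `target + K * time`; `R (c * m + j)` is the justification of the edge:
`0` = the inverse edge is earlier; `r + 1` with `W r = []` = defining edge or subgroup generator at coset `0`;
`r + 1` with `W r = j :: w` = deduced by tracing `w` (where `g j = ev g w`) through earlier edges. -/

set_option autoImplicit false

namespace Cfsg.Agent.PC

/-- trace `w` from `c` to `d` through entries at most `b` -/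
noncomputable def trE (m K : ℕ) (E : ℕ → ℕ) (b d : ℕ) (w : List ℕ) : ℕ → ℕ :=
  List.rec (motive := fun _ => ℕ → ℕ) (fun c => Nat.xor c d)
    (fun j _ ih c => (fun e => Nat.add (Nat.sub e b) (ih (Nat.mod e K))) (E (Nat.add (Nat.mul c m) j))) w

/-- check of the edge `(c, j)` -/
noncomputable def edgeE (n m mh K nr : ℕ) (E R D inv : ℕ → ℕ) (W : ℕ → List ℕ) (c j : ℕ) : ℕ :=
  (fun i => (fun e => (fun d =>
    Nat.add (ltE d n)
      (Nat.rec
        ((fun e' => Nat.add (ltE e' e) (Nat.xor (Nat.mod e' K) c)) (E (Nat.add (Nat.mul d m) (inv j))))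
        (fun r _ => List.rec
          (Nat.mul (Nat.add (Nat.xor j (D c)) (ltE d c)) (Nat.add (Nat.add c d) (ltE j mh)))
          (fun h w _ => Nat.add (Nat.add (Nat.add (Nat.xor h j) (ltE r nr)) (Nat.sub (nat_lit 1) e))
            (trE m K E (Nat.sub e (nat_lit 1)) d w c)) (W r))
        (R i))) (Nat.mod e K)) (E i)) (Nat.add (Nat.mul c m) j)

/-- check of all edges at coset `c` -/
noncomputable def rowE (n m mh K nr : ℕ) (E R D inv : ℕ → ℕ) (W : ℕ → List ℕ) (c : ℕ) : ℕ :=
  lin (edgeE n m mh K nr E R D inv W c) (nat_lit 0) m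

section
variable {G : Type*} [Group G]

/-- a deduction rule is valid -/
def RuleOK (g : ℕ → G) (m : ℕ) (L : List ℕ) : Prop :=
  ∀ h w, L = h :: w → g h = ev g w ∧ ∀ j ∈ w, j < m

/-- labelled points of the enumeration -/
noncomputable def tcPt {X : Type*} [MulAction G X] (g : ℕ → G) (m K : ℕ) (E D : ℕ → ℕ) (x0 : X) (c : ℕ) : X :=
  Nat.strongRec (motive := fun _ => X)
    (fun c ih => if h : E (c * m + D c) % K < c then (g (D c))⁻¹ • ih _ h else x0) c

theorem tcPt_eq {X : Type*} [MulAction G X] (g : ℕ → G) (m K : ℕ) (E D : ℕ → ℕ) (x0 : X) (c : ℕ) :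
    tcPt g m K E D x0 c = if E (c * m + D c) % K < c then
      (g (D c))⁻¹ • tcPt g m K E D x0 (E (c * m + D c) % K) else x0 := by
  rw [tcPt, Nat.strongRec_eq]
  split_ifs <;> rfl

theorem tc_main {X : Type*} [MulAction G X] {g : ℕ → G} {n m mh K nr : ℕ} {E R D inv : ℕ → ℕ}
    {W : ℕ → List ℕ} (hinv : InvOK g inv m) (hW : ∀ r < nr, RuleOK g m (W r))
    (h : ∀ c < n, rowE n m mh K nr E R D inv W c = 0) (x0 : X) (hx : ∀ j < mh, g j • x0 = x0) :
    ∃ pt : ℕ → X, pt 0 = x0 ∧ Reps pt n g (fun j c => E (c * m + j) % K) m := by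
  have hE : ∀ c < n, ∀ j < m, edgeE n m mh K nr E R D inv W c j = 0 := by
    intro c hc j hj
    have := h c hc
    rw [rowE, lin_eq, Finset.sum_eq_zero_iff] at this
    simpa using this j (by simpa using hj)
  have hlt : ∀ c < n, ∀ j < m, E (c * m + j) % K < n := fun c hc j hj =>
    ltE_zero (add_eq_zero' (hE c hc j hj)).1
  set pt := tcPt g m K E D x0 with hpt
  have h0 : pt 0 = x0 := by rw [hpt, tcPt_eq, if_neg (Nat.not_lt_zero _)]
  refine ⟨pt, h0, ?_⟩
  have key : ∀ v, ∀ c < n, ∀ j < m, E (c * m + j) = v → g j • pt c = pt (E (c * m + j) % K) := by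
    intro v
    induction v using Nat.strong_induction_on with
    | _ v ih =>
      intro c hc j hj hv
      have h1 := (add_eq_zero' (hE c hc j hj)).2
      have htr : ∀ b < v, ∀ d, ∀ w : List ℕ, (∀ i ∈ w, i < m) → ∀ c' < n, trE m K E b d w c' = 0 →
          ev g w • pt c' = pt d := by
        intro b hb d w
        induction w with
        | nil =>
          intro _ c' _ ht
          rw [xor_eq_zero' (show Nat.xor c' d = 0 from ht)]; simp
        | cons i w ihw =>
          intro hw c' hc' ht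
          have hi := hw i List.mem_cons_self
          have ht' : Nat.add (Nat.sub (E (c' * m + i)) b) (trE m K E b d w (E (c' * m + i) % K)) = 0 := ht
          obtain ⟨t1, t2⟩ := add_eq_zero' ht'
          have t3 := sub_eq_zero' t1
          rw [ev_cons, mul_smul, ih _ (by omega) c' hc' i hi rfl]
          exact ihw (fun k hk => hw k (List.mem_cons_of_mem _ hk)) _ (hlt c' hc' i hi) t2
      change Nat.rec (motive := fun _ => ℕ) _ _ (R (c * m + j)) = 0 at h1
      rcases hR : R (c * m + j) with _ | r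
      · rw [hR] at h1
        have h2 : Nat.add (ltE (E (E (c * m + j) % K * m + inv j)) (E (c * m + j)))
            (Nat.xor (E (E (c * m + j) % K * m + inv j) % K) c) = 0 := h1
        obtain ⟨h3, h4⟩ := add_eq_zero' h2
        have h5 := ltE_zero h3
        have h6 := ih _ (by omega) _ (hlt c hc j hj) _ (hinv j hj).1 rfl
        rw [xor_eq_zero' h4, (hinv j hj).2, inv_smul_eq_iff] at h6
        exact h6.symm
      · rw [hR] at h1
        change List.rec (motive := fun _ => ℕ) _ _ (W r) = 0 at h1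
        rcases hWr : W r with _ | ⟨a, w⟩
        · rw [hWr] at h1
          have h2 : Nat.mul (Nat.add (Nat.xor j (D c)) (ltE (E (c * m + j) % K) c))
              (Nat.add (Nat.add c (E (c * m + j) % K)) (ltE j mh)) = 0 := h1
          rcases mul_eq_zero' h2 with h3 | h3
          · obtain ⟨h4, h5⟩ := add_eq_zero' h3
            have h6 := xor_eq_zero' h4
            have h7 := ltE_zero h5
            subst h6
            rw [hpt, tcPt_eq g m K E D x0 c, if_pos h7, smul_inv_smul]
          · obtain ⟨h4, h5⟩ := add_eq_zero' h3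
            obtain ⟨h6, h7⟩ := add_eq_zero' h4
            rw [h7, h6, h0]
            exact hx j (ltE_zero h5)
        · rw [hWr] at h1
          have h2 : Nat.add (Nat.add (Nat.add (Nat.xor a j) (ltE r nr)) (Nat.sub 1 (E (c * m + j))))
            (trE m K E (Nat.sub (E (c * m + j)) 1) (E (c * m + j) % K) w c) = 0 := h1
          obtain ⟨h3, h4⟩ := add_eq_zero' h2
          obtain ⟨h5, h6⟩ := add_eq_zero' h3
          obtain ⟨h7, h8⟩ := add_eq_zero' h5
          have h9 := xor_eq_zero' h7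
          have h10 := sub_eq_zero' h6
          obtain ⟨h11, h12⟩ := hW r (ltE_zero h8) a w hWr
          subst h9
          rw [h11]
          refine htr _ ?_ _ w h12 c hc h4
          show E (c * m + a) - 1 < v
          omega
  exact fun j hj c hc => ⟨hlt c hc j hj, key _ c hc j hj rfl⟩

/-- the orbit under the generated group stays among the labelled points (letters closed under inversion) -/
theorem Reps.smul_mem_of_inv {X : Type*} [MulAction G X] {pt : ℕ → X} {N : ℕ} {g : ℕ → G} {T : ℕ → ℕ → ℕ}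
    {m : ℕ} {inv : ℕ → ℕ} (h : Reps pt N g T m) (hinv : InvOK g inv m) :
    ∀ a ∈ gen g m, ∀ c < N, ∃ d < N, a • pt c = pt d := by
  intro a ha
  refine gen_induction (P := fun a => ∀ c < N, ∃ d < N, a • pt c = pt d) ?_ ?_ ?_ a ha
  · intro c hc; exact ⟨c, hc, one_smul _ _⟩
  · intro j hj x hx c hc
    obtain ⟨d, hd, he⟩ := hx c hc
    exact ⟨T j d, (h j hj d hd).1, by rw [mul_smul, he, (h j hj d hd).2]⟩
  · intro j hj x hx c hc
    obtain ⟨d, hd, he⟩ := hx c hc
    have := h _ (hinv j hj).1 d hd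
    exact ⟨_, this.1, by rw [mul_smul, he, ← (hinv j hj).2, this.2]⟩

/-- index bound from a coset-enumeration certificate, for any subgroup containing the first `mh` letters -/
theorem tc_relIndex {g : ℕ → G} {n m mh K nr : ℕ} {E R D inv : ℕ → ℕ}
    {W : ℕ → List ℕ} (hinv : InvOK g inv m) (hW : ∀ r < nr, RuleOK g m (W r)) (hn : 0 < n)
    (h : ∀ c < n, rowE n m mh K nr E R D inv W c = 0) (H : Subgroup G) (hH : ∀ j < mh, g j ∈ H) :
    H.relIndex (gen g m) ≠ 0 ∧ H.relIndex (gen g m) ≤ n := by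
  obtain ⟨pt, h0, hr⟩ := tc_main hinv hW h ((1 : G) : G ⧸ H) (fun j hj => by
    rw [MulAction.Quotient.smul_coe, smul_eq_mul, mul_one, eq_comm, QuotientGroup.eq]
    simpa using hH j hj)
  have hst : MulAction.stabilizer (gen g m) ((1 : G) : G ⧸ H) = H.subgroupOf (gen g m) := by
    ext x
    rw [MulAction.mem_stabilizer_iff, Subgroup.mem_subgroupOf]
    change (x : G) • ((1 : G) : G ⧸ H) = _ ↔ _
    rw [MulAction.Quotient.smul_coe, smul_eq_mul, mul_one, eq_comm, QuotientGroup.eq]
    simp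
  have hsub : MulAction.orbit (gen g m) ((1 : G) : G ⧸ H) ⊆ pt '' Set.Iio n := by
    rintro _ ⟨a, rfl⟩
    obtain ⟨d, hd, he⟩ := hr.smul_mem_of_inv hinv a a.2 0 hn
    exact ⟨d, hd, by rw [← he, h0]; rfl⟩
  have hfin : (pt '' Set.Iio n).Finite := (Set.finite_lt_nat n).image _
  rw [Subgroup.relIndex, ← hst, MulAction.index_stabilizer]
  constructor
  · exact Set.ncard_ne_zero_of_mem (MulAction.mem_orbit_self _) (hfin.subset hsub)
  · calc _ ≤ (pt '' Set.Iio n).ncard := Set.ncard_le_ncard hsub hfin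
      _ ≤ (Set.Iio n).ncard := Set.ncard_image_le (Set.finite_lt_nat n)
      _ = n := by rw [← Finset.coe_Iio, Set.ncard_coe_finset, Nat.card_Iio]

/-- `H` is finite of order at most `k` -/
def CardLE (H : Subgroup G) (k : ℕ) : Prop := Finite H ∧ Nat.card H ≤ k

theorem cardLE_bot : CardLE (⊥ : Subgroup G) 1 := ⟨inferInstance, by simp⟩

theorem cardLE_gen_zero (g : ℕ → G) : CardLE (gen g 0) 1 := by rw [gen_zero]; exact cardLE_bot

theorem CardLE.of_relIndex {H L : Subgroup G} {k n : ℕ} (hH : CardLE H k)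
    (h : H.relIndex L ≠ 0 ∧ H.relIndex L ≤ n) : CardLE L (n * k) := by
  obtain ⟨hf, hk⟩ := hH
  have h1 : Finite (H.subgroupOf L) := Finite.of_injective
    (fun x : H.subgroupOf L => (⟨x.1.1, x.2⟩ : H)) (fun a b hab => by
      ext; exact congrArg (fun y : H => (y : G)) hab)
  have h2 : Nat.card (H.subgroupOf L) ≤ Nat.card H := Nat.card_le_card_of_injective
    (fun x : H.subgroupOf L => (⟨x.1.1, x.2⟩ : H)) (fun a b hab => by
      ext; exact congrArg (fun y : H => (y : G)) hab)
  have h3 := (H.subgroupOf L).index_mul_card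
  have h4 : Nat.card L ≠ 0 := by
    rw [← h3]; exact mul_ne_zero h.1 Nat.card_pos.ne'
  refine ⟨Nat.finite_of_card_ne_zero h4, ?_⟩
  rw [← h3]
  exact Nat.mul_le_mul h.2 (h2.trans hk)

theorem tc_card {g : ℕ → G} {n m mh K nr k : ℕ} {E R D inv : ℕ → ℕ}
    {W : ℕ → List ℕ} (hinv : InvOK g inv m) (hW : ∀ r < nr, RuleOK g m (W r)) (hn : 0 < n)
    (h : ∀ c < n, rowE n m mh K nr E R D inv W c = 0) (hk : CardLE (gen g mh) k) :
    CardLE (gen g m) (n * k) :=
  hk.of_relIndex (tc_relIndex hinv hW hn h _ fun _ hj => mem_gen g hj)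

/-- error term: two lists differ -/
noncomputable def listE (u : List ℕ) : List ℕ → ℕ :=
  List.rec (motive := fun _ => List ℕ → ℕ) (fun v => List.rec (nat_lit 0) (fun _ _ _ => nat_lit 1) v)
    (fun a _ ih v => List.rec (nat_lit 1) (fun b v' _ => Nat.add (Nat.xor a b) (ih v')) v) u

theorem listE_zero {u v : List ℕ} (h : listE u v = 0) : u = v := by
  induction u generalizing v with
  | nil =>
    rcases v with _ | ⟨b, v⟩
    · rfl
    · exact absurd (show (1 : ℕ) = 0 from h) one_ne_zero
  | cons a u ih =>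
    rcases v with _ | ⟨b, v⟩
    · exact absurd (show (1 : ℕ) = 0 from h) one_ne_zero
    · have h' : Nat.add (Nat.xor a b) (listE u v) = 0 := h
      obtain ⟨h1, h2⟩ := add_eq_zero' h'
      rw [xor_eq_zero' h1, ih h2]

/-- the rule `L` is a rotation of relator `c / 2048` (inverted when `c` is odd) by `c / 2 % 1024` places -/
noncomputable def ruleE (m : ℕ) (inv : ℕ → ℕ) (Rel : ℕ → List ℕ) (c : ℕ) (L : List ℕ) : ℕ :=
  List.rec (nat_lit 0) (fun h w _ =>
    (fun L0 => (fun L1 => (fun s =>
      Nat.add (Nat.add (lettE m L0) (lettE m (h :: w))) (listE (inv h :: w) (L1.drop s ++ L1.take s)))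
      (Nat.mod (Nat.div c (nat_lit 2)) (nat_lit 1024)))
      (Nat.rec (motive := fun _ => List ℕ) L0 (fun _ _ => invw inv L0) (Nat.mod c (nat_lit 2))))
      (Rel (Nat.div c (nat_lit 2048)))) L

theorem ruleE_ok {g : ℕ → G} {m : ℕ} {inv : ℕ → ℕ} (hinv : InvOK g inv m) {Rel : ℕ → List ℕ}
    (hRel : ∀ i, ev g (Rel i) = 1) {c : ℕ} {L : List ℕ} (h : ruleE m inv Rel c L = 0) : RuleOK g m L := by
  rintro a w rfl
  have h' : Nat.add (Nat.add (lettE m (Rel (c / 2048))) (lettE m (a :: w))) (listE (inv a :: w)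
      ((Nat.rec (motive := fun _ => List ℕ) (Rel (c / 2048)) (fun _ _ => invw inv (Rel (c / 2048))) (c % 2)).drop (c / 2 % 1024) ++
       (Nat.rec (motive := fun _ => List ℕ) (Rel (c / 2048)) (fun _ _ => invw inv (Rel (c / 2048))) (c % 2)).take (c / 2 % 1024))) = 0 := h
  obtain ⟨h1, h2⟩ := add_eq_zero' h'
  obtain ⟨h3, h4⟩ := add_eq_zero' h1
  have h5 := lettE_zero h3
  have h6 := lettE_zero h4
  have h7 := listE_zero h2
  have h8 : ev g (Nat.rec (motive := fun _ => List ℕ) (Rel (c / 2048))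
      (fun _ _ => invw inv (Rel (c / 2048))) (c % 2)) = 1 := by
    rcases c % 2 with _ | k
    · exact hRel _
    · show ev g (invw inv (Rel (c / 2048))) = 1
      rw [ev_invw (fun j hj => (hinv j (h5 j hj)).2), hRel, inv_one]
  have h9 := ev_rotate h8 (c / 2 % 1024)
  rw [← h7, ev_cons, (hinv a (h6 a List.mem_cons_self)).2, mul_inv_eq_one] at h9
  exact ⟨h9.symm, fun j hj => h6 j (List.mem_cons_of_mem _ hj)⟩

theorem rules_ok {g : ℕ → G} {m nr : ℕ} {inv : ℕ → ℕ} (hinv : InvOK g inv m) {Rel : ℕ → List ℕ}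
    (hRel : ∀ i, ev g (Rel i) = 1) {C : ℕ → ℕ} {W : ℕ → List ℕ}
    (h : Nat.beq (upTo (fun r => ruleE m inv Rel (C r) (W r)) nr) (nat_lit 0) = true) :
    ∀ r < nr, RuleOK g m (W r) := fun r hr => ruleE_ok hinv hRel (upTo_beq h r hr)

/-- all words of a tree are relators -/
def TL.All (P : List ℕ → Prop) : TL → Prop
  | .leaf l => P l
  | .node l r => l.All P ∧ r.All P

theorem TL.All.get {P : List ℕ → Prop} {t : TL} (h : t.All P) (i : ℕ) : P (t.get i) := by
  induction t generalizing i with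
  | leaf l => exact h
  | node l r ihl ihr =>
    have : (TL.node l r).get i = Nat.rec (motive := fun _ => List ℕ) (l.get (i / 2)) (fun _ _ => r.get (i / 2)) (i % 2) := rfl
    rw [this]
    rcases i % 2 with _ | k
    · exact ihl h.1 _
    · exact ihr h.2 _

theorem getD_rel {g : ℕ → G} {rels : List (List ℕ)} (h : ∀ L ∈ rels, ev g L = 1) (i : ℕ) :
    ev g (rels.getD i []) = 1 := by
  rw [List.getD_eq_getElem?_getD]
  by_cases hi : i < rels.length
  · rw [List.getElem?_eq_getElem hi]; exact h _ (List.getElem_mem hi)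
  · rw [List.getElem?_eq_none (by omega)]; rfl

end

end Cfsg.Agent.PC
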