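import Mathlib.GroupTheory.GroupAction.Primitive
import Mathlib.GroupTheory.Subgroup.Simple
import Mathlib.GroupTheory.Commutator.Basic
import Cfsg.Agent.Lib.PermCert.TC

/-! Orbit certificates, stabilizer chains (lower bounds on orders), primitivity and simplicity criteria. -/

set_option autoImplicit false

namespace Cfsg.Agent.PC

open MulAction

section
variable {G : Type*} [Group G] {X : Type*} [MulAction G X]

/-- labelling injective below `N` -/
def Inj {X : Type*} (pt : ℕ → X) (N : ℕ) : Prop := ∀ i < N, ∀ j < N, pt i = pt j → i = j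

theorem Inj.ncard_image {X : Type*} {pt : ℕ → X} {N : ℕ} (h : Inj pt N) (P : ℕ → Prop) [DecidablePred P] :
    (pt '' {d | d < N ∧ P d}).ncard = ((Finset.range N).filter P).card := by
  rw [Set.InjOn.ncard_image (fun a ha b hb e => h a ha.1 b hb.1 e), ← Set.ncard_coe_finset]
  congr 1
  ext d; simp

theorem Inj.ncard_Iio {X : Type*} {pt : ℕ → X} {N : ℕ} (h : Inj pt N) : (pt '' Set.Iio N).ncard = N := by
  rw [Set.InjOn.ncard_image (s := Set.Iio N) (fun a ha b hb e => h a ha b hb e),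
      ← Finset.coe_Iio, Set.ncard_coe_finset, Nat.card_Iio]

/-- number of `d < N` with `O d = k` -/
noncomputable def cnt (O : ℕ → ℕ) (k N : ℕ) : ℕ := upTo (fun d => eqI (O d) k) N

theorem cnt_eq (O : ℕ → ℕ) (k N : ℕ) : cnt O k N = ((Finset.range N).filter fun d => O d = k).card := by
  rw [cnt, upTo_eq, Finset.card_filter]
  simp only [eqI_eq]

theorem Inj.ncard_class {X : Type*} {pt : ℕ → X} {N : ℕ} (h : Inj pt N) (O : ℕ → ℕ) (k : ℕ) :
    (pt '' {d | d < N ∧ O d = k}).ncard = cnt O k N := by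
  rw [cnt_eq, h.ncard_image]

/-- descent check: a point of nonzero class is the root of its class or moves by letter `J c` to the point
`D c` of the same class and smaller height `V` -/
noncomputable def descE (m N : ℕ) (eE V O rt J D : ℕ → ℕ) (c : ℕ) : ℕ :=
  Nat.rec (nat_lit 0) (fun _ _ => Nat.mul (Nat.xor c (rt (O c)))
    (Nat.add (Nat.add (Nat.add (ltE (J c) m) (ltE (D c) N)) (eE c))
      (Nat.add (Nat.xor (O (D c)) (O c)) (ltE (V (D c)) (V c))))) (O c)

theorem desc_main {pt : ℕ → X} {N : ℕ} {g : ℕ → G} {m : ℕ} {eE V O rt J D : ℕ → ℕ}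
    (hedge : ∀ c < N, J c < m → D c < N → eE c = 0 → g (J c) • pt c = pt (D c))
    (h : ∀ c < N, descE m N eE V O rt J D c = 0) :
    ∀ c < N, O c ≠ 0 → ∃ a ∈ gen g m, a • pt (rt (O c)) = pt c := by
  have key : ∀ v, ∀ c < N, V c = v → O c ≠ 0 → ∃ a ∈ gen g m, a • pt (rt (O c)) = pt c := by
    intro v
    induction v using Nat.strong_induction_on with
    | _ v ih =>
      intro c hc hv hO
      have h1 := h c hc
      obtain ⟨o, ho⟩ := Nat.exists_eq_succ_of_ne_zero hO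
      have h2 : Nat.mul (Nat.xor c (rt (O c)))
          (Nat.add (Nat.add (Nat.add (ltE (J c) m) (ltE (D c) N)) (eE c))
          (Nat.add (Nat.xor (O (D c)) (O c)) (ltE (V (D c)) (V c)))) = 0 := by
        unfold descE at h1
        generalize Nat.mul _ _ = z at h1 ⊢
        rw [ho] at h1
        exact h1
      rcases mul_eq_zero' h2 with h3 | h3
      · exact ⟨1, one_mem _, by rw [← xor_eq_zero' h3, one_smul]⟩
      · obtain ⟨h4, h5⟩ := add_eq_zero' h3
        obtain ⟨h6, h7⟩ := add_eq_zero' h4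
        obtain ⟨h8, h9⟩ := add_eq_zero' h6
        obtain ⟨h10, h11⟩ := add_eq_zero' h5
        have e1 := xor_eq_zero' h10
        obtain ⟨a, ha, he⟩ := ih _ (hv ▸ ltE_zero h11) (D c) (ltE_zero h9) rfl (e1 ▸ hO)
        refine ⟨(g (J c))⁻¹ * a, mul_mem (inv_mem (mem_gen g (ltE_zero h8))) ha, ?_⟩
        rw [mul_smul, ← e1, he, inv_smul_eq_iff, hedge c hc (ltE_zero h8) (ltE_zero h9) h7]
  exact fun c hc => key _ c hc rfl

/-- two points of one nonzero class are conjugate -/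
theorem desc_conj {pt : ℕ → X} {N : ℕ} {g : ℕ → G} {m : ℕ} {eE V O rt J D : ℕ → ℕ}
    (hedge : ∀ c < N, J c < m → D c < N → eE c = 0 → g (J c) • pt c = pt (D c))
    (h : ∀ c < N, descE m N eE V O rt J D c = 0) :
    ∀ c < N, ∀ d < N, O c ≠ 0 → O c = O d → ∃ a ∈ gen g m, a • pt c = pt d := by
  intro c hc d hd h0 he
  obtain ⟨a, ha, e1⟩ := desc_main hedge h c hc h0
  obtain ⟨b, hb, e2⟩ := desc_main hedge h d hd (he ▸ h0)
  exact ⟨b * a⁻¹, mul_mem hb (inv_mem ha), by rw [mul_smul, ← e1, inv_smul_smul, he, e2]⟩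

/-- descent check through action tables: `V c = height * M + letter` -/
noncomputable def descT (T : ℕ → ℕ → ℕ) (m N M : ℕ) (V O rt : ℕ → ℕ) (c : ℕ) : ℕ :=
  descE m N (fun _ => nat_lit 0) V O rt (fun c => Nat.mod (V c) M) (fun c => T (Nat.mod (V c) M) c) c

theorem descT_main {pt : ℕ → X} {N : ℕ} {g : ℕ → G} {T : ℕ → ℕ → ℕ} {m M : ℕ} {V O rt : ℕ → ℕ}
    (hr : Reps pt N g T m) (h : ∀ c < N, descT T m N M V O rt c = 0) :
    ∀ c < N, O c ≠ 0 → ∃ a ∈ gen g m, a • pt (rt (O c)) = pt c :=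
  desc_main (fun c hc hj _ _ => (hr _ hj c hc).2) h

theorem descT_conj {pt : ℕ → X} {N : ℕ} {g : ℕ → G} {T : ℕ → ℕ → ℕ} {m M : ℕ} {V O rt : ℕ → ℕ}
    (hr : Reps pt N g T m) (h : ∀ c < N, descT T m N M V O rt c = 0) :
    ∀ c < N, ∀ d < N, O c ≠ 0 → O c = O d → ∃ a ∈ gen g m, a • pt c = pt d :=
  desc_conj (fun c hc hj _ _ => (hr _ hj c hc).2) h

/-- the class function `O` is invariant under the tables -/
noncomputable def invE (T : ℕ → ℕ → ℕ) (m : ℕ) (O : ℕ → ℕ) (c : ℕ) : ℕ :=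
  lin (fun j => Nat.xor (O (T j c)) (O c)) (nat_lit 0) m

theorem invE_zero {T : ℕ → ℕ → ℕ} {m : ℕ} {O : ℕ → ℕ} {c : ℕ} (h : invE T m O c = 0) :
    ∀ j < m, O (T j c) = O c := by
  intro j hj
  rw [invE, lin_eq, Finset.sum_eq_zero_iff] at h
  simpa using xor_eq_zero' (h j (by simpa using hj))

/-- the orbits of the generated group on the labelled points are the nonzero classes -/
theorem orbit_eq_class {pt : ℕ → X} {N : ℕ} {g : ℕ → G} {T : ℕ → ℕ → ℕ} {m M : ℕ} {V O rt : ℕ → ℕ}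
    (hr : Reps pt N g T m) (hinj : Inj pt N) (h : ∀ c < N, descT T m N M V O rt c = 0)
    (hi : ∀ c < N, invE T m O c = 0) {c : ℕ} (hc : c < N) (h0 : O c ≠ 0) :
    orbit (gen g m) (pt c) = pt '' {d | d < N ∧ O d = O c} := by
  ext x
  constructor
  · rintro ⟨a, rfl⟩
    obtain ⟨d, hd, h1, h2⟩ := hr.smul_mem hinj (P := fun d => O d = O c)
      (fun j hj d hd hP => (invE_zero (hi d hd) j hj).trans hP) a a.2 c hc rfl
    exact ⟨d, ⟨hd, h1⟩, h2.symm⟩
  · rintro ⟨d, ⟨hd, h1⟩, rfl⟩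
    obtain ⟨a, ha, he⟩ := descT_conj hr h c hc d hd h0 h1.symm
    exact ⟨⟨a, ha⟩, he⟩

/-- `1` on nonzero numbers -/
def sg (v : ℕ) : ℕ := Nat.sub (nat_lit 1) (Nat.sub (nat_lit 1) v)

/-- check for a lower bound `n` on the orbit of `pt β` -/
noncomputable def orbE (T : ℕ → ℕ → ℕ) (m N M : ℕ) (V : ℕ → ℕ) (β n : ℕ) : ℕ :=
  Nat.add (upTo (descT T m N M V (fun c => sg (V c)) (fun _ => β)) N)
    (Nat.sub n (cnt (fun c => sg (V c)) (nat_lit 1) N))

theorem orb_lower {pt : ℕ → X} {N : ℕ} {g : ℕ → G} {T : ℕ → ℕ → ℕ} {m M : ℕ} {V : ℕ → ℕ} {β n : ℕ}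
    (hr : Reps pt N g T m) (hinj : Inj pt N) (h : orbE T m N M V β n = 0) {L : Subgroup G} [Finite L]
    (hL : gen g m ≤ L) : n ≤ (orbit L (pt β)).ncard := by
  obtain ⟨h1, h2⟩ := add_eq_zero' h
  have h3 := descT_main hr (upTo_zero h1)
  refine (sub_eq_zero' h2).trans ?_
  rw [← hinj.ncard_class]
  refine Set.ncard_le_ncard ?_ (Set.finite_range _)
  rintro _ ⟨d, ⟨hd, h4⟩, rfl⟩
  obtain ⟨a, ha, he⟩ := h3 d hd (by rw [h4]; exact one_ne_zero)
  exact ⟨⟨a, hL ha⟩, he⟩

theorem card_eq_orbit_mul (L : Subgroup G) (x : X) :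
    Nat.card L = (orbit L x).ncard * Nat.card ↥(L ⊓ stabilizer G x) := by
  rw [← index_stabilizer, ← (stabilizer L x).index_mul_card]
  congr 1
  refine Nat.card_congr ⟨fun a => ⟨a.1.1, a.1.2, a.2⟩, fun a => ⟨⟨a.1, a.2.1⟩, a.2.2⟩, fun _ => rfl, fun _ => rfl⟩

/-- one level `(β, n, m', V)` of a stabilizer chain: base point, orbit length, letters kept, descent table -/
structure Lev where
  β : ℕ
  n : ℕ
  m' : ℕ
  V : ℕ → ℕ

/-- check of a stabilizer chain -/
noncomputable def chainE (T : ℕ → ℕ → ℕ) (N M : ℕ) (t : List Lev) : ℕ → ℕ :=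
  List.rec (motive := fun _ => ℕ → ℕ) (fun _ => nat_lit 0)
    (fun l _ ih m => Nat.add (Nat.add (Nat.add (orbE T m N M l.V l.β l.n) (ltE l.β N))
      (Nat.add (Nat.sub l.m' m) (lin (fun j => Nat.xor (T j l.β) l.β) (nat_lit 0) l.m'))) (ih l.m')) t

/-- product of the orbit lengths -/
def chainN (t : List Lev) : ℕ := (t.map Lev.n).prod

/-- pointwise stabilizer of the base points -/
def chainSt (G : Type*) [Group G] {X : Type*} [MulAction G X] (pt : ℕ → X) : List Lev → Subgroup G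
  | [] => ⊤
  | l :: t => stabilizer G (pt l.β) ⊓ chainSt G pt t

theorem chain_cons {pt : ℕ → X} {N : ℕ} {g : ℕ → G} {T : ℕ → ℕ → ℕ} {m M : ℕ} {l : Lev} {t : List Lev}
    (hr : Reps pt N g T m) (h : chainE T N M (l :: t) m = 0) :
    orbE T m N M l.V l.β l.n = 0 ∧ l.β < N ∧ l.m' ≤ m ∧ gen g l.m' ≤ stabilizer G (pt l.β) ∧
      chainE T N M t l.m' = 0 := by
  have h' : Nat.add (Nat.add (Nat.add (orbE T m N M l.V l.β l.n) (ltE l.β N))
      (Nat.add (Nat.sub l.m' m) (lin (fun j => Nat.xor (T j l.β) l.β) 0 l.m'))) (chainE T N M t l.m') = 0 := h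
  obtain ⟨h1, h2⟩ := add_eq_zero' h'
  obtain ⟨h3, h4⟩ := add_eq_zero' h1
  obtain ⟨h5, h6⟩ := add_eq_zero' h3
  obtain ⟨h7, h8⟩ := add_eq_zero' h4
  have h9 := sub_eq_zero' h7
  refine ⟨h5, ltE_zero h6, h9, gen_le fun j hj => ?_, h2⟩
  rw [lin_eq, Finset.sum_eq_zero_iff] at h8
  have := xor_eq_zero' (h8 j (by simpa using hj))
  rw [zero_add] at this
  exact (hr j (by omega)).smul_eq (ltE_zero h6) this

theorem chain_lower {pt : ℕ → X} {N : ℕ} {g : ℕ → G} {T : ℕ → ℕ → ℕ} {M : ℕ} (hinj : Inj pt N)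
    (t : List Lev) : ∀ {m : ℕ}, Reps pt N g T m → chainE T N M t m = 0 → ∀ (L : Subgroup G) [Finite L],
    gen g m ≤ L → chainN t * Nat.card ↥(L ⊓ chainSt G pt t) ≤ Nat.card L := by
  induction t with
  | nil => intro m _ _ L _ _; simp [chainN, chainSt]
  | cons l t ih =>
    intro m hr h L _ hL
    obtain ⟨h1, h2, h3, h4, h5⟩ := chain_cons hr h
    have : Finite ↥(L ⊓ stabilizer G (pt l.β)) := Finite.Set.subset (s := (L : Set G)) (fun x hx => hx.1)
    have h6 := ih (hr.mono h3) h5 (L ⊓ stabilizer G (pt l.β)) (le_inf ((gen_mono g h3).trans hL) h4)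
    have h7 := orb_lower hr hinj h1 hL
    rw [card_eq_orbit_mul L (pt l.β), chainSt, ← inf_assoc]
    calc _ = l.n * (chainN t * Nat.card ↥(L ⊓ stabilizer G (pt l.β) ⊓ chainSt G pt t)) := by
          simp [chainN, mul_assoc]
      _ ≤ _ := Nat.mul_le_mul h7 h6

theorem chain_le_card {pt : ℕ → X} {N : ℕ} {g : ℕ → G} {T : ℕ → ℕ → ℕ} {M m : ℕ} {t : List Lev}
    (hinj : Inj pt N) (hr : Reps pt N g T m) (h : chainE T N M t m = 0) (L : Subgroup G) [Finite L]
    (hL : gen g m ≤ L) : chainN t ≤ Nat.card L := by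
  have : Finite ↥(L ⊓ chainSt G pt t) := Finite.Set.subset (s := (L : Set G)) (fun x hx => hx.1)
  have h1 := chain_lower hinj t hr h L hL
  have h2 : 0 < Nat.card ↥(L ⊓ chainSt G pt t) := Nat.card_pos
  nlinarith

/-- a finite subgroup of order at most the chain product that contains the letters is generated by them -/
theorem chain_gen_eq {pt : ℕ → X} {N : ℕ} {g : ℕ → G} {T : ℕ → ℕ → ℕ} {M m : ℕ} {t : List Lev}
    (hinj : Inj pt N) (hr : Reps pt N g T m) (h : chainE T N M t m = 0) {L : Subgroup G}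
    (hL : gen g m ≤ L) (hc : CardLE L (chainN t)) : gen g m = L ∧ Nat.card L = chainN t := by
  obtain ⟨hf, hc⟩ := hc
  have : Finite (gen g m) := Finite.Set.subset (s := (L : Set G)) hL
  have h1 := chain_le_card hinj hr h (gen g m) le_rfl
  exact ⟨Subgroup.eq_of_le_of_card_ge hL (hc.trans h1), le_antisymm hc (chain_le_card hinj hr h L hL)⟩

/-- the base points form a base -/
theorem chain_base {pt : ℕ → X} {N : ℕ} {g : ℕ → G} {T : ℕ → ℕ → ℕ} {M m : ℕ} {t : List Lev}
    (hinj : Inj pt N) (hr : Reps pt N g T m) (h : chainE T N M t m = 0) {L : Subgroup G}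
    (hL : gen g m ≤ L) (hc : CardLE L (chainN t)) : L ⊓ chainSt G pt t = ⊥ := by
  obtain ⟨hf, hc⟩ := hc
  have : Finite ↥(L ⊓ chainSt G pt t) := Finite.Set.subset (s := (L : Set G)) (fun x hx => hx.1)
  have h1 := chain_lower hinj t hr h L hL
  have h2 : 0 < Nat.card ↥(L ⊓ chainSt G pt t) := Nat.card_pos
  have h3 : 0 < Nat.card L := Nat.card_pos
  rw [← Subgroup.card_eq_one]
  nlinarith

/-- the stabilizer of the first base point is the next group of the chain -/
theorem chain_stab {pt : ℕ → X} {N : ℕ} {g : ℕ → G} {T : ℕ → ℕ → ℕ} {M m : ℕ} {l : Lev} {t : List Lev}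
    (hinj : Inj pt N) (hr : Reps pt N g T m) (h : chainE T N M (l :: t) m = 0) {L : Subgroup G}
    (hL : gen g m ≤ L) (hc : CardLE L (chainN (l :: t))) :
    gen g l.m' = L ⊓ stabilizer G (pt l.β) ∧ Nat.card ↥(L ⊓ stabilizer G (pt l.β)) = chainN t ∧
      (orbit L (pt l.β)).ncard = l.n := by
  obtain ⟨hf, hc⟩ := hc
  obtain ⟨h1, h2, h3, h4, h5⟩ := chain_cons hr h
  have : Finite ↥(L ⊓ stabilizer G (pt l.β)) := Finite.Set.subset (s := (L : Set G)) (fun x hx => hx.1)
  have h6 : gen g l.m' ≤ L ⊓ stabilizer G (pt l.β) := le_inf ((gen_mono g h3).trans hL) h4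
  have h7 := orb_lower hr hinj h1 hL
  have h8 := chain_le_card hinj (hr.mono h3) h5 _ h6
  have h9 := card_eq_orbit_mul L (pt l.β)
  have h10 : chainN (l :: t) = l.n * chainN t := by simp [chainN]
  have h11 : 0 < Nat.card L := Nat.card_pos
  have h12 : Nat.card ↥(L ⊓ stabilizer G (pt l.β)) ≤ chainN t := by
    by_contra hlt
    push Not at hlt
    rcases Nat.eq_zero_or_pos l.n with h0 | h0
    · rw [h10, h0] at hc; omega
    · nlinarith
  have h13 := le_antisymm h12 h8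
  refine ⟨(chain_gen_eq hinj (hr.mono h3) h5 h6 ⟨inferInstance, h12⟩).1, h13, ?_⟩
  rw [h13] at h9
  have h14 : 0 < chainN t := by rw [← h13]; exact Nat.card_pos
  apply le_antisymm _ h7
  by_contra hlt
  push Not at hlt
  nlinarith

/-- error term: the word `w` fixes all base points -/
noncomputable def baseE (T : ℕ → ℕ → ℕ) (N : ℕ) (w : List ℕ) (t : List Lev) : ℕ :=
  List.rec (nat_lit 0) (fun l _ ih => Nat.add (Nat.add (Nat.xor (tr T w l.β) l.β) (ltE l.β N)) ih) t

theorem baseE_mem {pt : ℕ → X} {N : ℕ} {g : ℕ → G} {T : ℕ → ℕ → ℕ} {m : ℕ} {w : List ℕ}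
    (hr : Reps pt N g T m) (hw : ∀ j ∈ w, j < m) (t : List Lev) (h : baseE T N w t = 0) :
    ev g w ∈ chainSt G pt t := by
  induction t with
  | nil => trivial
  | cons l t ih =>
    have h' : Nat.add (Nat.add (Nat.xor (tr T w l.β) l.β) (ltE l.β N)) (baseE T N w t) = 0 := h
    obtain ⟨h1, h2⟩ := add_eq_zero' h'
    obtain ⟨h3, h4⟩ := add_eq_zero' h1
    exact ⟨(hr.ev hw).smul_eq (ltE_zero h4) (xor_eq_zero' h3), ih h2⟩

/-- a word that lies in `L` and fixes a base of `L` is trivial -/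
theorem ev_eq_one_of_base {pt : ℕ → X} {N : ℕ} {g : ℕ → G} {T : ℕ → ℕ → ℕ} {m : ℕ} {w : List ℕ}
    {t : List Lev} {L : Subgroup G} (hb : L ⊓ chainSt G pt t = ⊥) (hL : gen g m ≤ L)
    (hr : Reps pt N g T m) (h : Nat.add (lettE m w) (baseE T N w t) = 0) : ev g w = 1 := by
  obtain ⟨h1, h2⟩ := add_eq_zero' h
  have h3 := lettE_zero h1
  rw [← Subgroup.mem_bot, ← hb]
  exact ⟨hL (ev_mem_gen g h3), baseE_mem hr h3 t h2⟩

/-! ### maximality, primitivity, simplicity -/

/-- A union of classes that contains the class of `c0` and whose size divides `N` is that class or everything. -/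
def SubsetOK (O : ℕ → ℕ) (N r k0 : ℕ) : Prop :=
  ∀ S ∈ (Finset.Icc 1 r).powerset, k0 ∈ S → (∑ k ∈ S, cnt O k N) ∣ N → S = {k0} ∨ S = Finset.Icc 1 r

theorem subsetOK_of_list {O : ℕ → ℕ} {N r k0 : ℕ} (s : ℕ → ℕ) (hs : ∀ k, 1 ≤ k → k ≤ r → cnt O k N = s k)
    (h : ∀ S ∈ (Finset.Icc 1 r).powerset, k0 ∈ S → (∑ k ∈ S, s k) ∣ N → S = {k0} ∨ S = Finset.Icc 1 r) :
    SubsetOK O N r k0 := by
  intro S hS h0 hd
  apply h S hS h0
  rwa [← Finset.sum_congr rfl (fun k hk => hs k
    (Finset.mem_Icc.mp (Finset.mem_powerset.mp hS hk)).1 (Finset.mem_Icc.mp (Finset.mem_powerset.mp hS hk)).2)]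

/-- The stabilizer of `pt c0` is maximal when the labelled points are its orbit and the classes of `O` (fused
by elements fixing `pt c0`) pass the subset test. -/
theorem isCoatom_stabilizer {pt : ℕ → X} {N c0 r : ℕ} {O : ℕ → ℕ} (hinj : Inj pt N) (hc0 : c0 < N) (hN : 1 < N)
    (horb : orbit G (pt c0) = pt '' Set.Iio N)
    (hO : ∀ c < N, 1 ≤ O c ∧ O c ≤ r)
    (hconj : ∀ c < N, ∀ d < N, O c = O d → ∃ a ∈ stabilizer G (pt c0), a • pt c = pt d)
    (hs : SubsetOK O N r (O c0)) : IsCoatom (stabilizer G (pt c0)) := by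
  classical
  have hidx : (stabilizer G (pt c0)).index = N := by
    rw [index_stabilizer, horb, hinj.ncard_Iio]
  refine ⟨fun h => by rw [h, Subgroup.index_top] at hidx; omega, fun K hK => ?_⟩
  let S := (Finset.Icc 1 r).filter fun k => ∃ c < N, O c = k ∧ pt c ∈ orbit K (pt c0)
  have hKo : orbit K (pt c0) = pt '' {d | d < N ∧ O d ∈ S} := by
    ext x
    constructor
    · rintro ⟨a, rfl⟩
      have : (a : G) • pt c0 ∈ orbit G (pt c0) := mem_orbit _ _
      rw [horb] at this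
      obtain ⟨d, hd, he⟩ := this
      refine ⟨d, ⟨hd, ?_⟩, he⟩
      simp only [S, Finset.mem_filter, Finset.mem_Icc]
      exact ⟨hO d hd, d, hd, rfl, ⟨a, he.symm⟩⟩
    · rintro ⟨d, ⟨hd, h1⟩, rfl⟩
      simp only [S, Finset.mem_filter] at h1
      obtain ⟨-, c, hc, h2, ⟨a, h3⟩⟩ := h1
      obtain ⟨b, hb, h4⟩ := hconj c hc d hd h2
      refine ⟨⟨b, hK.le hb⟩ * a, ?_⟩
      simp only at h3 ⊢
      rw [mul_smul, h3]; exact h4
  have hcard : (orbit K (pt c0)).ncard = ∑ k ∈ S, cnt O k N := by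
    rw [hKo, hinj.ncard_image, Finset.card_eq_sum_card_fiberwise (f := O) (t := S)
      (s := (Finset.range N).filter fun d => O d ∈ S) (fun d hd => (Finset.mem_filter.mp hd).2)]
    refine Finset.sum_congr rfl fun k hk => ?_
    rw [cnt_eq, Finset.filter_filter]
    congr 1
    ext d
    simp only [Finset.mem_filter, and_congr_right_iff, and_iff_right_iff_imp]
    rintro - rfl; exact hk
  have hrel : (orbit K (pt c0)).ncard = (stabilizer G (pt c0)).relIndex K := by
    rw [← index_stabilizer]; rfl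
  have hdvd : (∑ k ∈ S, cnt O k N) ∣ N := by
    rw [← hcard, hrel]
    conv_rhs => rw [← hidx, ← Subgroup.relIndex_mul_index hK.le]
    exact dvd_mul_right _ _
  have h0 : O c0 ∈ S := by
    simp only [S, Finset.mem_filter, Finset.mem_Icc]
    exact ⟨hO c0 hc0, c0, hc0, rfl, mem_orbit_self _⟩
  rcases hs S (Finset.mem_powerset.mpr (Finset.filter_subset _ _)) h0 hdvd with h1 | h1
  · exfalso
    apply hK.not_ge
    intro a ha
    have : a • pt c0 ∈ orbit K (pt c0) := ⟨⟨a, ha⟩, rfl⟩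
    rw [hKo, h1] at this
    obtain ⟨d, ⟨hd, h2⟩, h3⟩ := this
    obtain ⟨b, hb, h4⟩ := hconj c0 hc0 d hd (Finset.mem_singleton.mp h2).symm
    rw [mem_stabilizer_iff] at hb ⊢
    rw [← h3, ← h4, hb]
  · rw [eq_top_iff]
    intro a _
    have : a • pt c0 ∈ orbit K (pt c0) := by
      have h2 : a • pt c0 ∈ orbit G (pt c0) := mem_orbit _ _
      rw [horb] at h2
      obtain ⟨d, hd, he⟩ := h2
      rw [hKo, h1]
      exact ⟨d, ⟨hd, Finset.mem_Icc.mpr (hO d hd)⟩, he⟩
    obtain ⟨b, hb⟩ := this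
    have h3 : (b : G)⁻¹ * a ∈ stabilizer G (pt c0) := by
      rw [mem_stabilizer_iff, mul_smul, inv_smul_eq_iff]; exact hb.symm
    have := K.mul_mem b.2 (hK.le h3)
    simpa using this

/-- a normal subgroup not inside a maximal subgroup supplements it -/
theorem sup_eq_top_of_coatom {H N : Subgroup G} (hH : IsCoatom H) (hN : ¬ N ≤ H) : H ⊔ N = ⊤ :=
  hH.2 _ (lt_of_le_of_ne le_sup_left fun h => hN (h ▸ le_sup_right))

/-- Simplicity: a maximal core-free subgroup `H`, and an element of order prime to `|H|` whose normal closure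
is everything. -/
theorem simple_of_coprime [Finite G] {H : Subgroup G} (hH : IsCoatom H) (hcore : H.normalCore = ⊥) (x : G)
    (hx : (orderOf x).Coprime (Nat.card H)) (hg : Subgroup.normalClosure {x} = ⊤) : IsSimpleGroup G := by
  have : Nontrivial G := by
    by_contra h
    rw [not_nontrivial_iff_subsingleton] at h
    exact hH.1 (Subsingleton.elim _ _)
  refine ⟨fun N hN => ?_⟩
  by_cases h0 : N = ⊥
  · exact Or.inl h0
  right
  have h1 : ¬ N ≤ H := fun h => h0 (le_bot_iff.mp (hcore ▸ Subgroup.normal_le_normalCore.mpr h))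
  have h2 := sup_eq_top_of_coatom hH h1
  have h3 : N.index ∣ Nat.card H := by
    rw [← Subgroup.relIndex_top_right, ← h2, Subgroup.relIndex_sup_right]
    exact Subgroup.relIndex_dvd_card N H
  have h4 : x ∈ N := by
    have h5 := N.pow_index_mem x
    have h6 : (orderOf x).Coprime N.index := Nat.Coprime.coprime_dvd_right h3 hx
    obtain ⟨k, hk⟩ := exists_pow_eq_self_of_coprime h6.symm
    rw [← hk]; exact N.pow_mem h5 k
  rw [eq_top_iff, ← hg]
  exact Subgroup.normalClosure_le_normal (by simpa using h4)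

/-- Iwasawa's criterion with a cyclic normal subgroup of a maximal core-free subgroup. -/
theorem simple_of_iwasawa {H A : Subgroup G} (hH : IsCoatom H) (hcore : H.normalCore = ⊥)
    (hA : ∀ a ∈ A, ∀ b ∈ A, a * b = b * a) (hn : ∀ h ∈ H, ∀ a ∈ A, h * a * h⁻¹ ∈ A)
    (hg : Subgroup.normalClosure (A : Set G) = ⊤) (hp : commutator G = ⊤) : IsSimpleGroup G := by
  have : Nontrivial G := by
    by_contra h
    rw [not_nontrivial_iff_subsingleton] at h
    exact hH.1 (Subsingleton.elim _ _)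
  refine ⟨fun N hN => ?_⟩
  by_cases h0 : N = ⊥
  · exact Or.inl h0
  right
  have h1 : ¬ N ≤ H := fun h => h0 (le_bot_iff.mp (hcore ▸ Subgroup.normal_le_normalCore.mpr h))
  have h2 := sup_eq_top_of_coatom hH h1
  have h3 : (N ⊔ A).Normal := by
    rw [← Subgroup.normalizer_eq_top_iff, eq_top_iff, ← h2, sup_le_iff]
    refine ⟨fun h hh => ?_, le_sup_left.trans Subgroup.le_normalizer⟩
    have key : ∀ h ∈ H, ∀ y ∈ N ⊔ A, h * y * h⁻¹ ∈ N ⊔ A := by
      intro h hh y hy
      have : (N ⊔ A).map (MulAut.conj h).toMonoidHom ≤ N ⊔ A := by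
        rw [Subgroup.map_sup, sup_le_iff]
        constructor
        · rintro _ ⟨n, hn', rfl⟩; exact Subgroup.mem_sup_left (hN.conj_mem n hn' h)
        · rintro _ ⟨a, ha, rfl⟩; exact Subgroup.mem_sup_right (hn h hh a ha)
      exact this ⟨y, hy, rfl⟩
    rw [Subgroup.mem_normalizer_iff]
    intro y
    refine ⟨key h hh y, fun hy => ?_⟩
    have := key h⁻¹ (H.inv_mem hh) _ hy
    simpa [mul_assoc] using this
  have h4 : N ⊔ A = ⊤ := by
    rw [eq_top_iff, ← hg]
    exact Subgroup.normalClosure_le_normal (fun a ha => Subgroup.mem_sup_right ha)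
  rw [eq_top_iff, ← hp, commutator_def, Subgroup.commutator_le]
  intro x _ y _
  have hx : x ∈ ((N ⊔ A : Subgroup G) : Set G) := by rw [h4]; trivial
  have hy : y ∈ ((N ⊔ A : Subgroup G) : Set G) := by rw [h4]; trivial
  rw [Subgroup.normal_mul] at hx hy
  obtain ⟨n, hn1, a, ha, rfl⟩ := hx
  obtain ⟨n', hn2, b, hb, rfl⟩ := hy
  rw [← QuotientGroup.eq_one_iff]
  have e1 : ((n : G) : G ⧸ N) = 1 := (QuotientGroup.eq_one_iff _).mpr hn1
  have e2 : ((n' : G) : G ⧸ N) = 1 := (QuotientGroup.eq_one_iff _).mpr hn2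
  have e3 : ((a : G) : G ⧸ N) * b = b * a := by rw [← QuotientGroup.mk_mul, hA a ha b hb]; rfl
  simp only [commutatorElement_def, QuotientGroup.mk_mul, QuotientGroup.mk_inv, e1, e2, one_mul, e3]
  group

/-- a stabilizer is core-free when only the identity fixes the whole orbit -/
theorem normalCore_stabilizer_eq_bot {x : X} (h : ∀ a : G, (∀ y ∈ orbit G x, a • y = y) → a = 1) :
    (stabilizer G x).normalCore = ⊥ := by
  rw [eq_bot_iff]
  intro a ha
  rw [Subgroup.mem_bot]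
  apply h
  rintro _ ⟨b, rfl⟩
  have := ha b⁻¹
  rw [mem_stabilizer_iff, inv_inv, mul_smul, mul_smul, inv_smul_eq_iff] at this
  exact this

end

end Cfsg.Agent.PC
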