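import Mathlib.GroupTheory.PresentedGroup
import Mathlib.GroupTheory.Perm.Basic
import Cfsg.Agent.Lib.PermCert.Orbit

/-! Permutations of `Fin N` (or of any labelled finite type) built from tables; homomorphisms from
presentation bounds. -/

set_option autoImplicit false

namespace Cfsg.Agent.PC

open MulAction

section Lab
variable {X : Type*}

/-- a full labelling of `X` by the numbers below `N` -/
structure Lab (X : Type*) (N : ℕ) where
  pt : ℕ → X
  idx : X → ℕ
  idx_lt : ∀ x, idx x < N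
  pt_idx : ∀ x, pt (idx x) = x
  idx_pt : ∀ i < N, idx (pt i) = i

variable {N : ℕ}

theorem Lab.inj (L : Lab X N) : Inj L.pt N := fun i hi j hj h => by
  rw [← L.idx_pt i hi, h, L.idx_pt j hj]

theorem Lab.surj (L : Lab X N) (x : X) : ∃ i < N, L.pt i = x := ⟨_, L.idx_lt x, L.pt_idx x⟩

theorem Lab.image (L : Lab X N) : L.pt '' Set.Iio N = Set.univ :=
  Set.eq_univ_of_forall fun x => ⟨_, L.idx_lt x, L.pt_idx x⟩

/-- the labelling of `Fin (n + 1)` -/
def finLab (n : ℕ) : Lab (Fin (n + 1)) (n + 1) where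
  pt i := Fin.ofNat (n + 1) i
  idx x := x.val
  idx_lt x := x.2
  pt_idx x := by ext; simp
  idx_pt i hi := by simp [Nat.mod_eq_of_lt hi]

open Classical in
/-- the permutation with table `f`, when `f` and `f'` are inverse to each other below `N` -/
noncomputable def Lab.perm (L : Lab X N) (f f' : ℕ → ℕ) : Equiv.Perm X :=
  if h : ∀ i < N, f i < N ∧ f' i < N ∧ f (f' i) = i ∧ f' (f i) = i then
    { toFun := fun x => L.pt (f (L.idx x))
      invFun := fun x => L.pt (f' (L.idx x))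
      left_inv := fun x => by
        obtain ⟨h1, -, -, h4⟩ := h _ (L.idx_lt x)
        simp only [L.idx_pt _ h1, h4, L.pt_idx]
      right_inv := fun x => by
        obtain ⟨-, h2, h3, -⟩ := h _ (L.idx_lt x)
        simp only [L.idx_pt _ h2, h3, L.pt_idx] }
  else 1

theorem Lab.rep_perm (L : Lab X N) {f f' : ℕ → ℕ}
    (h : ∀ i < N, f i < N ∧ f' i < N ∧ f (f' i) = i ∧ f' (f i) = i) : Rep L.pt N (L.perm f f') f := by
  intro i hi
  refine ⟨(h i hi).1, ?_⟩
  rw [Lab.perm, dif_pos h]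
  simp [L.idx_pt i hi]

/-- the family of permutations with tables `T j` and inverse tables `T (inv j)` -/
noncomputable def Lab.fam (L : Lab X N) (T : ℕ → ℕ → ℕ) (inv : ℕ → ℕ) (j : ℕ) : Equiv.Perm X :=
  L.perm (T j) (T (inv j))

/-- error term at the point `c`: all tables stay below `N` and `T (inv j)` undoes `T j` -/
noncomputable def permE (T : ℕ → ℕ → ℕ) (inv : ℕ → ℕ) (N m c : ℕ) : ℕ :=
  lin (fun j => (fun d => Nat.add (ltE d N) (Nat.xor (T (inv j) d) c)) (T j c)) (nat_lit 0) m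

/-- error term: `inv` is an involution of the letters below `m` -/
noncomputable def invlE (inv : ℕ → ℕ) (m : ℕ) : ℕ :=
  upTo (fun j => Nat.add (ltE (inv j) m) (Nat.xor (inv (inv j)) j)) m

theorem permE_zero {T : ℕ → ℕ → ℕ} {inv : ℕ → ℕ} {N m c : ℕ} (h : permE T inv N m c = 0) :
    ∀ j < m, T j c < N ∧ T (inv j) (T j c) = c := by
  intro j hj
  rw [permE, lin_eq, Finset.sum_eq_zero_iff] at h
  have := h j (by simpa using hj)
  simp only [zero_add] at this
  obtain ⟨h1, h2⟩ := add_eq_zero' this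
  exact ⟨ltE_zero h1, xor_eq_zero' h2⟩

theorem Lab.reps_fam (L : Lab X N) {T : ℕ → ℕ → ℕ} {inv : ℕ → ℕ} {m : ℕ} (hi : invlE inv m = 0)
    (h : ∀ c < N, permE T inv N m c = 0) :
    Reps L.pt N (L.fam T inv) T m ∧ InvOK (L.fam T inv) inv m := by
  have h1 : ∀ j < m, inv j < m ∧ inv (inv j) = j := fun j hj => by
    obtain ⟨a, b⟩ := add_eq_zero' (upTo_zero hi j hj)
    exact ⟨ltE_zero a, xor_eq_zero' b⟩
  have h2 : Reps L.pt N (L.fam T inv) T m := fun j hj => L.rep_perm fun i hi => by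
    obtain ⟨a, b⟩ := permE_zero (h i hi) j hj
    obtain ⟨c, d⟩ := permE_zero (h i hi) _ (h1 j hj).1
    rw [(h1 j hj).2] at d
    exact ⟨a, c, d, b⟩
  refine ⟨h2, fun j hj => ⟨(h1 j hj).1, ?_⟩⟩
  refine Rep.eq_of_faithful L.surj (h2 _ (h1 j hj).1) ((h2 j hj).inv (f' := T (inv j)) fun i hi => ?_)
    fun _ _ => rfl
  obtain ⟨c, d⟩ := permE_zero (h i hi) _ (h1 j hj).1
  rw [(h1 j hj).2] at d
  exact ⟨c, d⟩

/-- error term at the point `c`: the word `w` fixes `c` -/
noncomputable def fixE (T : ℕ → ℕ → ℕ) (w : List ℕ) (c : ℕ) : ℕ := Nat.xor (tr T w c) c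

/-- error term at the point `c`: the words `u` and `v` agree at `c` -/
noncomputable def agrE (T : ℕ → ℕ → ℕ) (u v : List ℕ) (c : ℕ) : ℕ := Nat.xor (tr T u c) (tr T v c)

theorem ev_eq_ev {G : Type*} [Group G] [MulAction G X] [FaithfulSMul G X] {pt : ℕ → X}
    (hs : ∀ x, ∃ i < N, pt i = x) {g : ℕ → G} {T : ℕ → ℕ → ℕ} {m : ℕ} (hr : Reps pt N g T m)
    {u v : List ℕ} (hu : ∀ j ∈ u, j < m) (hv : ∀ j ∈ v, j < m) (h : ∀ c < N, agrE T u v c = 0) :
    ev g u = ev g v :=
  Rep.eq_of_faithful hs (hr.ev hu) (hr.ev hv) fun c hc => xor_eq_zero' (h c hc)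

theorem ev_eq_one {G : Type*} [Group G] [MulAction G X] [FaithfulSMul G X] {pt : ℕ → X}
    (hs : ∀ x, ∃ i < N, pt i = x) {g : ℕ → G} {T : ℕ → ℕ → ℕ} {m : ℕ} (hr : Reps pt N g T m)
    {w : List ℕ} (hw : ∀ j ∈ w, j < m) (h : ∀ c < N, fixE T w c = 0) : ev g w = 1 :=
  Rep.eq_of_faithful hs (hr.ev hw) Rep.one fun c hc => xor_eq_zero' (h c hc)

/-- error term at `c`: every word of the list fixes `c` -/
noncomputable def relsE (T : ℕ → ℕ → ℕ) (rels : List (List ℕ)) (c : ℕ) : ℕ :=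
  List.rec (nat_lit 0) (fun w _ ih => Nat.add (fixE T w c) ih) rels

/-- error term: all words use letters below `m` -/
noncomputable def lettsE (m : ℕ) (rels : List (List ℕ)) : ℕ :=
  List.rec (nat_lit 0) (fun w _ ih => Nat.add (lettE m w) ih) rels

theorem lettsE_zero {m : ℕ} {rels : List (List ℕ)} (h : lettsE m rels = 0) : ∀ w ∈ rels, ∀ j ∈ w, j < m := by
  induction rels with
  | nil => simp
  | cons u t ih =>
    obtain ⟨h1, h2⟩ := add_eq_zero' (show Nat.add (lettE m u) (lettsE m t) = 0 from h)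
    intro w hw
    rcases List.mem_cons.mp hw with rfl | hw
    · exact lettE_zero h1
    · exact ih h2 w hw

theorem relsE_zero {T : ℕ → ℕ → ℕ} {rels : List (List ℕ)} {c : ℕ} (h : relsE T rels c = 0) :
    ∀ w ∈ rels, fixE T w c = 0 := by
  induction rels with
  | nil => simp
  | cons u t ih =>
    obtain ⟨h1, h2⟩ := add_eq_zero' (show Nat.add (fixE T u c) (relsE T t c) = 0 from h)
    intro w hw
    rcases List.mem_cons.mp hw with rfl | hw
    · exact h1
    · exact ih h2 w hw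

theorem rels_eq_one {G : Type*} [Group G] [MulAction G X] [FaithfulSMul G X] {pt : ℕ → X}
    (hs : ∀ x, ∃ i < N, pt i = x) {g : ℕ → G} {T : ℕ → ℕ → ℕ} {m : ℕ} (hr : Reps pt N g T m)
    {rels : List (List ℕ)} (hw : lettsE m rels = 0) (h : ∀ c < N, relsE T rels c = 0) :
    ∀ w ∈ rels, ev g w = 1 := fun w hw' =>
  ev_eq_one hs hr (lettsE_zero hw w hw') fun c hc => relsE_zero (h c hc) w hw'

/-- relators checked on a base only -/
noncomputable def relsBaseE (T : ℕ → ℕ → ℕ) (N m : ℕ) (t : List Lev) (rels : List (List ℕ)) : ℕ :=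
  List.rec (nat_lit 0) (fun w _ ih => Nat.add (Nat.add (lettE m w) (baseE T N w t)) ih) rels

theorem rels_eq_one_of_base {G : Type*} [Group G] [MulAction G X] {pt : ℕ → X} {g : ℕ → G}
    {T : ℕ → ℕ → ℕ} {m : ℕ} {t : List Lev} {L : Subgroup G} (hb : L ⊓ chainSt G pt t = ⊥) (hL : gen g m ≤ L)
    (hr : Reps pt N g T m) {rels : List (List ℕ)} (h : relsBaseE T N m t rels = 0) :
    ∀ w ∈ rels, ev g w = 1 := by
  induction rels with
  | nil => simp
  | cons u r ih =>
    obtain ⟨h1, h2⟩ := add_eq_zero'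
      (show Nat.add (Nat.add (lettE m u) (baseE T N u t)) (relsBaseE T N m t r) = 0 from h)
    intro w hw
    rcases List.mem_cons.mp hw with rfl | hw
    · exact ev_eq_one_of_base hb hL hr h1
    · exact ih h2 w hw

end Lab

section Hom
variable {G H : Type*} [Group G] [Group H]

theorem CardLE.mono {L : Subgroup G} {a b : ℕ} (h : CardLE L a) (hab : a ≤ b) : CardLE L b := ⟨h.1, h.2.trans hab⟩

theorem ev_prod (g : ℕ → G) (h : ℕ → H) (w : List ℕ) : ev (fun j => (g j, h j)) w = (ev g w, ev h w) := by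
  induction w with
  | nil => rfl
  | cons j w ih => simp [ih]

/-- If the pairs `(g j, h j)` generate a group no larger than the group generated by the `g j`, then
`g j ↦ h j` extends to a homomorphism onto the group generated by the `h j`. -/
theorem exists_hom_of_card {g : ℕ → G} {h : ℕ → H} {m k : ℕ}
    (hb : CardLE (gen (fun j => (g j, h j)) m) k) (hk : k ≤ Nat.card (gen g m)) :
    ∃ φ : gen g m →* H, (∀ j (hj : j < m), φ ⟨g j, mem_gen g hj⟩ = h j) ∧ φ.range = gen h m := by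
  obtain ⟨hf, hb⟩ := hb
  set D := gen (fun j => (g j, h j)) m with hD
  have hm1 : D.map (MonoidHom.fst G H) = gen g m := gen_map _ _ _
  have hm2 : D.map (MonoidHom.snd G H) = gen h m := gen_map _ _ _
  let p : D →* gen g m := ((MonoidHom.fst G H).comp D.subtype).codRestrict _ fun x => by
    rw [← hm1]; exact ⟨x, x.2, rfl⟩
  have hs : Function.Surjective p := by
    rintro ⟨y, hy⟩
    rw [← hm1] at hy
    obtain ⟨x, hx, rfl⟩ := hy
    exact ⟨⟨x, hx⟩, rfl⟩
  have : Finite (gen g m) := Finite.of_surjective p hs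
  have hbij : Function.Bijective p := hs.bijective_of_nat_card_le (hb.trans hk)
  let e := MulEquiv.ofBijective p hbij
  refine ⟨((MonoidHom.snd G H).comp D.subtype).comp e.symm.toMonoidHom, fun j hj => ?_, ?_⟩
  · have : e.symm ⟨g j, mem_gen g hj⟩ = ⟨(g j, h j), mem_gen (fun j => (g j, h j)) hj⟩ := by
      rw [MulEquiv.symm_apply_eq]; rfl
    simp [this]
  · rw [MonoidHom.range_comp, MonoidHom.range_eq_top.mpr e.symm.surjective, ← MonoidHom.range_eq_map,
      MonoidHom.range_comp, Subgroup.range_subtype, hm2]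

/-- two generating families satisfying a common presentation bound, both attaining it, give isomorphic groups -/
theorem equiv_of_card {g : ℕ → G} {h : ℕ → H} {m k : ℕ}
    (hb : CardLE (gen (fun j => (g j, h j)) m) k) (hk : k ≤ Nat.card (gen g m)) (hk' : k ≤ Nat.card (gen h m)) :
    ∃ e : gen g m ≃* gen h m, ∀ j (hj : j < m), (e ⟨g j, mem_gen g hj⟩ : H) = h j := by
  obtain ⟨φ, h1, h2⟩ := exists_hom_of_card hb hk
  have hm1 : (gen (fun j => (g j, h j)) m).map (MonoidHom.fst G H) = gen g m := gen_map _ _ _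
  have hf := hb.1
  have h3 : Nat.card (gen g m) ≤ k := by
    rw [← hm1]; exact (Nat.le_of_dvd Nat.card_pos (Subgroup.card_map_dvd _ _)).trans hb.2
  have : Finite (gen g m) := by
    rw [← hm1]; exact Finite.of_surjective _ (MonoidHom.subgroupMap_surjective _ _)
  let ψ : gen g m →* gen h m := φ.codRestrict _ fun x => by rw [← h2]; exact ⟨x, rfl⟩
  have hs : Function.Surjective ψ := by
    rintro ⟨y, hy⟩
    rw [← h2] at hy
    obtain ⟨x, rfl⟩ := hy
    exact ⟨x, rfl⟩
  exact ⟨MulEquiv.ofBijective ψ (hs.bijective_of_nat_card_le (h3.trans hk')), h1⟩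

theorem invOK_prod {g : ℕ → G} {h : ℕ → H} {inv : ℕ → ℕ} {m : ℕ} (h1 : InvOK g inv m) (h2 : InvOK h inv m) :
    InvOK (fun j => (g j, h j)) inv m := fun j hj => ⟨(h1 j hj).1, by
  simp [(h1 j hj).2, (h2 j hj).2]⟩

theorem rels_prod {g : ℕ → G} {h : ℕ → H} {rels : List (List ℕ)} (h1 : ∀ w ∈ rels, ev g w = 1)
    (h2 : ∀ w ∈ rels, ev h w = 1) : ∀ w ∈ rels, ev (fun j => (g j, h j)) w = 1 := fun w hw => by
  rw [ev_prod, h1 w hw, h2 w hw]; rfl

/-- `rels` on the letters below `m` (inverses by `inv`) force order at most `k`, in every group of universe `u` -/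
def PresBound.{u} (inv : ℕ → ℕ) (m : ℕ) (rels : List (List ℕ)) (k : ℕ) : Prop :=
  ∀ (Γ : Type u) [Group Γ] (g : ℕ → Γ), InvOK g inv m → (∀ w ∈ rels, ev g w = 1) → CardLE (gen g m) k

/-- actions pulled back along a homomorphism -/
theorem Reps.of_hom {X : Type*} [MulAction H X] (φ : G →* H) {pt : ℕ → X} {N : ℕ} {g : ℕ → G}
    {T : ℕ → ℕ → ℕ} {m : ℕ} (h : Reps pt N (fun j => φ (g j)) T m) :
    @Reps G _ X (MulAction.compHom X φ) pt N g T m := h

theorem InvOK.mono {g : ℕ → G} {inv : ℕ → ℕ} {m m' : ℕ} (h : InvOK g inv m) (hm : m' ≤ m)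
    (hi : ∀ j < m', inv j < m') : InvOK g inv m' := fun j hj => ⟨hi j hj, (h j (by omega)).2⟩

end Hom

end Cfsg.Agent.PC
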