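import Cfsg.Agent.Lib.PermCert.Simple

/-! Small generating sets certified by a chain, partitions of a family into orbits. -/

set_option autoImplicit false

namespace Cfsg.Agent.PC

open MulAction

variable {G : Type*} [Group G] {X : Type*} [MulAction G X]

/-- check: letters from `m0` on are words in earlier letters, and the letters `σ j` form a chain of order `k` -/
noncomputable def genE (T : ℕ → ℕ → ℕ) (W : ℕ → List ℕ) (σ : ℕ → ℕ) (N M m0 n m k : ℕ) (t : List Lev) : ℕ :=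
  Nat.add (Nat.add (rng (slpE T W N) m0 (Nat.sub n m0)) (upTo (fun j => ltE (σ j) n) m))
    (Nat.add (chainE (fun j => T (σ j)) N M t m) (Nat.xor (chainN t) k))

theorem gen_eq_of_slp [FaithfulSMul G X] {pt : ℕ → X} {N : ℕ} {g : ℕ → G} {T : ℕ → ℕ → ℕ} {n : ℕ}
    (hs : ∀ x, ∃ i < N, pt i = x) (hinj : Inj pt N) (hr : Reps pt N g T n) {m0 : ℕ} {H : Subgroup G}
    (hH : gen g m0 ≤ H) {k : ℕ} (hk : CardLE H k) (W : ℕ → List ℕ) (σ : ℕ → ℕ) (M m : ℕ) (t : List Lev)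
    (h : Nat.beq (genE T W σ N M m0 n m k t) (nat_lit 0) = true) : gen g m0 = H ∧ Nat.card H = k := by
  obtain ⟨h1, h2⟩ := add_eq_zero' (Nat.eq_of_beq_eq_true h)
  obtain ⟨h3, h4⟩ := add_eq_zero' h1
  obtain ⟨h5, h6⟩ := add_eq_zero' h2
  have h7 : ∀ j < m, σ j < n := fun j hj => ltE_zero (upTo_zero h4 j hj)
  have h8 := mem_of_slpE hs hr (W := W) (m0 := m0) (H := gen g m0) (fun j hj => mem_gen g hj)
    fun j a b => rng_zero h3 j a (by show j < m0 + (n - m0); omega)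
  have h9 : gen (fun j => g (σ j)) m ≤ gen g m0 := gen_le fun j hj => h8 _ (h7 j hj)
  have h10 := chain_gen_eq hinj (hr.comp h7) h5 (h9.trans hH) (by rw [xor_eq_zero' h6]; exact hk)
  exact ⟨le_antisymm hH (h10.1 ▸ h9), h10.2.trans (xor_eq_zero' h6)⟩

/-- check at the label `c`: the nonzero classes of `O` (at most `r`) are orbits and cover the labels with `P = 1` -/
noncomputable def partE (T : ℕ → ℕ → ℕ) (m N M : ℕ) (V O rt P : ℕ → ℕ) (r c : ℕ) : ℕ :=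
  Nat.add (Nat.add (descT T m N M V O rt c) (Nat.rec (nat_lit 0) (fun _ _ => invE T m O c) (O c)))
    (Nat.add (Nat.xor (sg (O c)) (P c)) (Nat.sub (O c) r))

/-- check of roots and class sizes, classes numbered from `k` -/
noncomputable def sizesE (N : ℕ) (O rt : ℕ → ℕ) (k : ℕ) (l : List ℕ) : ℕ :=
  List.rec (motive := fun _ => ℕ → ℕ) (fun _ => nat_lit 0) (fun n _ ih k => Nat.add
    (Nat.add (Nat.add (ltE (rt k) N) (Nat.xor (O (rt k)) k)) (Nat.xor (cnt O k N) n)) (ih (Nat.add k (nat_lit 1)))) l k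

theorem sizesE_zero {N : ℕ} {O rt : ℕ → ℕ} (l : List ℕ) : ∀ k, sizesE N O rt k l = 0 → ∀ i (hi : i < l.length),
    rt (k + i) < N ∧ O (rt (k + i)) = k + i ∧ cnt O (k + i) N = l[i] := by
  induction l with
  | nil => simp
  | cons n l ih =>
    intro k h i hi
    obtain ⟨h1, h2⟩ := add_eq_zero' h
    rcases i with _ | i
    · obtain ⟨h3, h4⟩ := add_eq_zero' h1
      obtain ⟨h5, h6⟩ := add_eq_zero' h3
      exact ⟨ltE_zero h5, xor_eq_zero' h6, xor_eq_zero' h4⟩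
    · have := ih (k + 1) h2 i (by simpa using hi)
      rw [show k + 1 + i = k + (i + 1) by omega] at this
      simpa using this

theorem sg_eq (v : ℕ) : sg v = if v = 0 then 0 else 1 := by
  show 1 - (1 - v) = _
  split_ifs <;> omega

theorem orbit_cls {pt : ℕ → X} {N : ℕ} {g : ℕ → G} {T : ℕ → ℕ → ℕ} {m M : ℕ} {V O rt : ℕ → ℕ}
    (hr : Reps pt N g T m) (hinj : Inj pt N) (h : ∀ c < N, descT T m N M V O rt c = 0)
    (hi : ∀ c < N, O c ≠ 0 → invE T m O c = 0) {c : ℕ} (hc : c < N) (h0 : O c ≠ 0) :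
    orbit (gen g m) (pt c) = pt '' {d | d < N ∧ O d = O c} := by
  apply orbit_eq_of
  · intro a ha
    obtain ⟨d, hd, e1, e2⟩ := hr.smul_mem hinj (P := fun d => O d = O c)
      (fun j hj d hd e => (invE_zero (hi d hd (e ▸ h0)) j hj).trans e) a ha c hc rfl
    exact ⟨d, ⟨hd, e1⟩, e2.symm⟩
  · rintro _ ⟨d, ⟨hd, e⟩, rfl⟩
    exact descT_conj hr h c hc d hd h0 e.symm

theorem part_main {pt : ℕ → X} {N : ℕ} {g : ℕ → G} {T : ℕ → ℕ → ℕ} {m : ℕ} (hr : Reps pt N g T m)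
    (hinj : Inj pt N) {H : Subgroup G} (hH : gen g m = H) {F : Set X} {M r : ℕ} {V O rt P : ℕ → ℕ}
    (hF : F = pt '' {d | d < N ∧ P d = 1}) (h : ∀ c < N, partE T m N M V O rt P r c = 0) :
    (∀ k n, 1 ≤ k → (rt k < N ∧ O (rt k) = k ∧ cnt O k N = n) → pt (rt k) ∈ F ∧
      orbit H (pt (rt k)) = pt '' {d | d < N ∧ O d = k} ∧ (orbit H (pt (rt k))).ncard = n) ∧
    F = pt '' {d | d < N ∧ 1 ≤ O d ∧ O d ≤ r} := by
  have h1 : ∀ c < N, descT T m N M V O rt c = 0 := fun c hc => (add_eq_zero' (add_eq_zero' (h c hc)).1).1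
  have h2 : ∀ c < N, O c ≠ 0 → invE T m O c = 0 := fun c hc h0 => by
    have := (add_eq_zero' (add_eq_zero' (h c hc)).1).2
    obtain ⟨v, hv⟩ := Nat.exists_eq_succ_of_ne_zero h0
    rwa [hv] at this
  have h3 : ∀ c < N, (P c = 1 ↔ 1 ≤ O c) ∧ O c ≤ r := fun c hc => by
    obtain ⟨a, b⟩ := add_eq_zero' (add_eq_zero' (h c hc)).2
    refine ⟨?_, sub_eq_zero' b⟩
    rw [← xor_eq_zero' a, sg_eq]
    by_cases e : O c = 0 <;> simp [e, Nat.one_le_iff_ne_zero]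
  refine ⟨fun k n hk ⟨a, b, c⟩ => ?_, ?_⟩
  · have := orbit_cls hr hinj h1 h2 a (by omega)
    rw [hH, b] at this
    exact ⟨hF ▸ ⟨_, ⟨a, (h3 _ a).1.mpr (by omega)⟩, rfl⟩, this, by rw [this, hinj.ncard_class, c]⟩
  · rw [hF]
    congr 1
    ext d
    exact and_congr_right fun hd => by have := h3 d hd; omega

theorem eq_single_of_ncard {Y : Type*} {S : Set Y} (h : S.ncard = 1) {x : Y} (hx : x ∈ S) : S = {x} := by
  obtain ⟨y, rfl⟩ := Set.ncard_eq_one.mp h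
  rw [Set.mem_singleton_iff.mp hx]

/-- maximality of a stabilizer from a partition certificate for the stabilizer -/
theorem coatom_of_part {pt : ℕ → X} {N : ℕ} {g : ℕ → G} {T : ℕ → ℕ → ℕ} {m : ℕ} (hr : Reps pt N g T m)
    (hinj : Inj pt N) {c0 : ℕ} (hc0 : c0 < N) (hH : gen g m ≤ stabilizer G (pt c0)) {M r : ℕ} {V O rt P : ℕ → ℕ}
    (hF : orbit G (pt c0) = pt '' {d | d < N ∧ P d = 1}) (h : ∀ c < N, partE T m N M V O rt P r c = 0)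
    (l : List ℕ) (hl : l.length = r) (hn : Nat.beq (sizesE N O rt (nat_lit 1) l) (nat_lit 0) = true) (h0 : O c0 = 1)
    (h1 : 1 < ∑ k ∈ Finset.Icc 1 r, l.getD (k - 1) 0)
    (ht : ∀ A ∈ (Finset.Icc 1 r).powerset, 1 ∈ A → (∑ k ∈ A, l.getD (k - 1) 0) ∣ (∑ k ∈ Finset.Icc 1 r, l.getD (k - 1) 0) →
      A = {1} ∨ A = Finset.Icc 1 r) : IsCoatom (stabilizer G (pt c0)) := by
  have h3 : ∀ c < N, (P c = 1 ↔ O c ≠ 0) ∧ O c ≤ r := fun c hc => by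
    obtain ⟨a, b⟩ := add_eq_zero' (add_eq_zero' (h c hc)).2
    refine ⟨?_, sub_eq_zero' b⟩
    rw [← xor_eq_zero' a, sg_eq]
    by_cases e : O c = 0 <;> simp [e, Nat.one_le_iff_ne_zero]
  refine isCoatom_lab (fun k => l.getD (k - 1) 0) hinj hc0 ?_ (fun c hc => (h3 c hc).2) ?_ ?_ h1 h0 ht
  · rw [hF]; congr 1; ext d; exact and_congr_right fun hd => (h3 d hd).1
  · intro c hc d hd a b
    obtain ⟨x, hx, e⟩ := descT_conj hr (fun c hc => (add_eq_zero' (add_eq_zero' (h c hc)).1).1) c hc d hd a b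
    exact ⟨x, hH hx, e⟩
  · intro k a b
    have := (sizesE_zero l _ (Nat.eq_of_beq_eq_true hn) (k - 1) (by omega)).2.2
    rw [show nat_lit 1 + (k - 1) = k by show 1 + (k - 1) = k; omega] at this
    rw [this, List.getD_eq_getElem?_getD, List.getElem?_eq_getElem (by omega)]; rfl

def Part3 (H : Subgroup G) (F : Set X) (n1 n2 n3 : ℕ) : Prop :=
  ∃ X1 ∈ F, ∃ X2 ∈ F, ∃ X3 ∈ F, (orbit H X1).ncard = n1 ∧ (orbit H X2).ncard = n2 ∧ (orbit H X3).ncard = n3 ∧ F = orbit H X1 ∪ orbit H X2 ∪ orbit H X3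

theorem Part3.conj (h : G) {H K : Subgroup G} (e : ∀ a, h * a * h⁻¹ ∈ K ↔ a ∈ H) {F : Set X}
    (hF : ∀ y, h • y ∈ F ↔ y ∈ F) {n1 n2 n3 : ℕ} (p : Part3 H F n1 n2 n3) :
    Part3 K F n1 n2 n3 := by
  obtain ⟨X1, h1, X2, h2, X3, h3, c1, c2, c3, hu⟩ := p
  refine ⟨h • X1, (hF _).mpr h1, h • X2, (hF _).mpr h2, h • X3, (hF _).mpr h3, (ncard_orbit_conj h e _).trans c1, (ncard_orbit_conj h e _).trans c2, (ncard_orbit_conj h e _).trans c3, ?_⟩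
  simp only [orbit_conj h e, ← Set.image_union]
  rw [← hu]
  exact image_transport h hF

theorem Part3.of_cert {pt : ℕ → X} {N : ℕ} {g : ℕ → G} {T : ℕ → ℕ → ℕ} {m : ℕ} (hr : Reps pt N g T m)
    (hinj : Inj pt N) {H : Subgroup G} (hH : gen g m = H) {F : Set X} (M : ℕ) (V O rt P : ℕ → ℕ)
    (hF : F = pt '' {d | d < N ∧ P d = 1}) (h : ∀ c < N, partE T m N M V O rt P 3 c = 0) (n1 n2 n3 : ℕ)
    (hn : Nat.beq (sizesE N O rt (nat_lit 1) [n1, n2, n3]) (nat_lit 0) = true) :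
    Part3 H F n1 n2 n3 := by
  obtain ⟨h1, h2⟩ := part_main hr hinj hH hF h
  have h3 := sizesE_zero _ _ (Nat.eq_of_beq_eq_true hn)
  obtain ⟨a1, b1, c1⟩ := h1 1 _ (by norm_num) (h3 0 (by simp))
  obtain ⟨a2, b2, c2⟩ := h1 2 _ (by norm_num) (h3 1 (by simp))
  obtain ⟨a3, b3, c3⟩ := h1 3 _ (by norm_num) (h3 2 (by simp))
  refine ⟨_, a1, _, a2, _, a3, c1, c2, c3, ?_⟩
  rw [b1, b2, b3, h2]
  ext x
  simp only [Set.mem_image, Set.mem_setOf_eq, Set.mem_union]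
  constructor
  · rintro ⟨d, ⟨hd, u, v⟩, rfl⟩
    have : O d = 1 ∨ O d = 2 ∨ O d = 3 := by omega
    rcases this with e | e | e
    · exact (Or.inl (Or.inl ⟨d, ⟨hd, e⟩, rfl⟩))
    · exact (Or.inl (Or.inr ⟨d, ⟨hd, e⟩, rfl⟩))
    · exact (Or.inr ⟨d, ⟨hd, e⟩, rfl⟩)
  · rintro ((⟨d, ⟨hd, e⟩, rfl⟩ | ⟨d, ⟨hd, e⟩, rfl⟩) | ⟨d, ⟨hd, e⟩, rfl⟩) <;> exact ⟨d, ⟨hd, by omega, by omega⟩, rfl⟩

def Part4 (H : Subgroup G) (F : Set X) (n1 n2 n3 n4 : ℕ) : Prop :=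
  ∃ X1 ∈ F, ∃ X2 ∈ F, ∃ X3 ∈ F, ∃ X4 ∈ F, (orbit H X1).ncard = n1 ∧ (orbit H X2).ncard = n2 ∧ (orbit H X3).ncard = n3 ∧ (orbit H X4).ncard = n4 ∧ F = orbit H X1 ∪ orbit H X2 ∪ orbit H X3 ∪ orbit H X4

theorem Part4.conj (h : G) {H K : Subgroup G} (e : ∀ a, h * a * h⁻¹ ∈ K ↔ a ∈ H) {F : Set X}
    (hF : ∀ y, h • y ∈ F ↔ y ∈ F) {n1 n2 n3 n4 : ℕ} (p : Part4 H F n1 n2 n3 n4) :
    Part4 K F n1 n2 n3 n4 := by
  obtain ⟨X1, h1, X2, h2, X3, h3, X4, h4, c1, c2, c3, c4, hu⟩ := p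
  refine ⟨h • X1, (hF _).mpr h1, h • X2, (hF _).mpr h2, h • X3, (hF _).mpr h3, h • X4, (hF _).mpr h4, (ncard_orbit_conj h e _).trans c1, (ncard_orbit_conj h e _).trans c2, (ncard_orbit_conj h e _).trans c3, (ncard_orbit_conj h e _).trans c4, ?_⟩
  simp only [orbit_conj h e, ← Set.image_union]
  rw [← hu]
  exact image_transport h hF

theorem Part4.of_cert {pt : ℕ → X} {N : ℕ} {g : ℕ → G} {T : ℕ → ℕ → ℕ} {m : ℕ} (hr : Reps pt N g T m)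
    (hinj : Inj pt N) {H : Subgroup G} (hH : gen g m = H) {F : Set X} (M : ℕ) (V O rt P : ℕ → ℕ)
    (hF : F = pt '' {d | d < N ∧ P d = 1}) (h : ∀ c < N, partE T m N M V O rt P 4 c = 0) (n1 n2 n3 n4 : ℕ)
    (hn : Nat.beq (sizesE N O rt (nat_lit 1) [n1, n2, n3, n4]) (nat_lit 0) = true) :
    Part4 H F n1 n2 n3 n4 := by
  obtain ⟨h1, h2⟩ := part_main hr hinj hH hF h
  have h3 := sizesE_zero _ _ (Nat.eq_of_beq_eq_true hn)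
  obtain ⟨a1, b1, c1⟩ := h1 1 _ (by norm_num) (h3 0 (by simp))
  obtain ⟨a2, b2, c2⟩ := h1 2 _ (by norm_num) (h3 1 (by simp))
  obtain ⟨a3, b3, c3⟩ := h1 3 _ (by norm_num) (h3 2 (by simp))
  obtain ⟨a4, b4, c4⟩ := h1 4 _ (by norm_num) (h3 3 (by simp))
  refine ⟨_, a1, _, a2, _, a3, _, a4, c1, c2, c3, c4, ?_⟩
  rw [b1, b2, b3, b4, h2]
  ext x
  simp only [Set.mem_image, Set.mem_setOf_eq, Set.mem_union]
  constructor
  · rintro ⟨d, ⟨hd, u, v⟩, rfl⟩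
    have : O d = 1 ∨ O d = 2 ∨ O d = 3 ∨ O d = 4 := by omega
    rcases this with e | e | e | e
    · exact (Or.inl (Or.inl (Or.inl ⟨d, ⟨hd, e⟩, rfl⟩)))
    · exact (Or.inl (Or.inl (Or.inr ⟨d, ⟨hd, e⟩, rfl⟩)))
    · exact (Or.inl (Or.inr ⟨d, ⟨hd, e⟩, rfl⟩))
    · exact (Or.inr ⟨d, ⟨hd, e⟩, rfl⟩)
  · rintro (((⟨d, ⟨hd, e⟩, rfl⟩ | ⟨d, ⟨hd, e⟩, rfl⟩) | ⟨d, ⟨hd, e⟩, rfl⟩) | ⟨d, ⟨hd, e⟩, rfl⟩) <;> exact ⟨d, ⟨hd, by omega, by omega⟩, rfl⟩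

def Part3A (H : Subgroup G) (F : Set X) (A : Set X) (n1 n2 n3 : ℕ) : Prop :=
  ∃ X1 ∈ F, ∃ X2 ∈ F, ∃ X3 ∈ F, (orbit H X1).ncard = n1 ∧ (orbit H X2).ncard = n2 ∧ (orbit H X3).ncard = n3 ∧ F = A ∪ orbit H X1 ∪ orbit H X2 ∪ orbit H X3

theorem Part3A.conj (h : G) {H K : Subgroup G} (e : ∀ a, h * a * h⁻¹ ∈ K ↔ a ∈ H) {F : Set X}
    (hF : ∀ y, h • y ∈ F ↔ y ∈ F) {A A' : Set X} (hA : A' = (h • ·) '' A) {n1 n2 n3 : ℕ} (p : Part3A H F A n1 n2 n3) :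
    Part3A K F A' n1 n2 n3 := by
  obtain ⟨X1, h1, X2, h2, X3, h3, c1, c2, c3, hu⟩ := p
  refine ⟨h • X1, (hF _).mpr h1, h • X2, (hF _).mpr h2, h • X3, (hF _).mpr h3, (ncard_orbit_conj h e _).trans c1, (ncard_orbit_conj h e _).trans c2, (ncard_orbit_conj h e _).trans c3, ?_⟩
  simp only [orbit_conj h e, hA, ← Set.image_union]
  rw [← hu]
  exact image_transport h hF

theorem Part3A.of_cert {pt : ℕ → X} {N : ℕ} {g : ℕ → G} {T : ℕ → ℕ → ℕ} {m : ℕ} (hr : Reps pt N g T m)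
    (hinj : Inj pt N) {H : Subgroup G} (hH : gen g m = H) {F : Set X} (M : ℕ) (V O rt P : ℕ → ℕ)
    (hF : F = pt '' {d | d < N ∧ P d = 1}) (h : ∀ c < N, partE T m N M V O rt P 4 c = 0) (n1 n2 n3 : ℕ)
    (hn : Nat.beq (sizesE N O rt (nat_lit 1) [1, n1, n2, n3]) (nat_lit 0) = true) :
    Part3A H F {pt (rt 1)} n1 n2 n3 := by
  obtain ⟨h1, h2⟩ := part_main hr hinj hH hF h
  have h3 := sizesE_zero _ _ (Nat.eq_of_beq_eq_true hn)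
  obtain ⟨a1, b1, c1⟩ := h1 1 _ (by norm_num) (h3 0 (by simp))
  obtain ⟨a2, b2, c2⟩ := h1 2 _ (by norm_num) (h3 1 (by simp))
  obtain ⟨a3, b3, c3⟩ := h1 3 _ (by norm_num) (h3 2 (by simp))
  obtain ⟨a4, b4, c4⟩ := h1 4 _ (by norm_num) (h3 3 (by simp))
  refine ⟨_, a2, _, a3, _, a4, c2, c3, c4, ?_⟩
  rw [← eq_single_of_ncard c1 (mem_orbit_self _)]
  rw [b1, b2, b3, b4, h2]
  ext x
  simp only [Set.mem_image, Set.mem_setOf_eq, Set.mem_union]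
  constructor
  · rintro ⟨d, ⟨hd, u, v⟩, rfl⟩
    have : O d = 1 ∨ O d = 2 ∨ O d = 3 ∨ O d = 4 := by omega
    rcases this with e | e | e | e
    · exact (Or.inl (Or.inl (Or.inl ⟨d, ⟨hd, e⟩, rfl⟩)))
    · exact (Or.inl (Or.inl (Or.inr ⟨d, ⟨hd, e⟩, rfl⟩)))
    · exact (Or.inl (Or.inr ⟨d, ⟨hd, e⟩, rfl⟩))
    · exact (Or.inr ⟨d, ⟨hd, e⟩, rfl⟩)
  · rintro (((⟨d, ⟨hd, e⟩, rfl⟩ | ⟨d, ⟨hd, e⟩, rfl⟩) | ⟨d, ⟨hd, e⟩, rfl⟩) | ⟨d, ⟨hd, e⟩, rfl⟩) <;> exact ⟨d, ⟨hd, by omega, by omega⟩, rfl⟩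

def Part4A (H : Subgroup G) (F : Set X) (A : Set X) (n1 n2 n3 n4 : ℕ) : Prop :=
  ∃ X1 ∈ F, ∃ X2 ∈ F, ∃ X3 ∈ F, ∃ X4 ∈ F, (orbit H X1).ncard = n1 ∧ (orbit H X2).ncard = n2 ∧ (orbit H X3).ncard = n3 ∧ (orbit H X4).ncard = n4 ∧ F = A ∪ orbit H X1 ∪ orbit H X2 ∪ orbit H X3 ∪ orbit H X4

theorem Part4A.conj (h : G) {H K : Subgroup G} (e : ∀ a, h * a * h⁻¹ ∈ K ↔ a ∈ H) {F : Set X}
    (hF : ∀ y, h • y ∈ F ↔ y ∈ F) {A A' : Set X} (hA : A' = (h • ·) '' A) {n1 n2 n3 n4 : ℕ} (p : Part4A H F A n1 n2 n3 n4) :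
    Part4A K F A' n1 n2 n3 n4 := by
  obtain ⟨X1, h1, X2, h2, X3, h3, X4, h4, c1, c2, c3, c4, hu⟩ := p
  refine ⟨h • X1, (hF _).mpr h1, h • X2, (hF _).mpr h2, h • X3, (hF _).mpr h3, h • X4, (hF _).mpr h4, (ncard_orbit_conj h e _).trans c1, (ncard_orbit_conj h e _).trans c2, (ncard_orbit_conj h e _).trans c3, (ncard_orbit_conj h e _).trans c4, ?_⟩
  simp only [orbit_conj h e, hA, ← Set.image_union]
  rw [← hu]
  exact image_transport h hF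

theorem Part4A.of_cert {pt : ℕ → X} {N : ℕ} {g : ℕ → G} {T : ℕ → ℕ → ℕ} {m : ℕ} (hr : Reps pt N g T m)
    (hinj : Inj pt N) {H : Subgroup G} (hH : gen g m = H) {F : Set X} (M : ℕ) (V O rt P : ℕ → ℕ)
    (hF : F = pt '' {d | d < N ∧ P d = 1}) (h : ∀ c < N, partE T m N M V O rt P 5 c = 0) (n1 n2 n3 n4 : ℕ)
    (hn : Nat.beq (sizesE N O rt (nat_lit 1) [1, n1, n2, n3, n4]) (nat_lit 0) = true) :
    Part4A H F {pt (rt 1)} n1 n2 n3 n4 := by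
  obtain ⟨h1, h2⟩ := part_main hr hinj hH hF h
  have h3 := sizesE_zero _ _ (Nat.eq_of_beq_eq_true hn)
  obtain ⟨a1, b1, c1⟩ := h1 1 _ (by norm_num) (h3 0 (by simp))
  obtain ⟨a2, b2, c2⟩ := h1 2 _ (by norm_num) (h3 1 (by simp))
  obtain ⟨a3, b3, c3⟩ := h1 3 _ (by norm_num) (h3 2 (by simp))
  obtain ⟨a4, b4, c4⟩ := h1 4 _ (by norm_num) (h3 3 (by simp))
  obtain ⟨a5, b5, c5⟩ := h1 5 _ (by norm_num) (h3 4 (by simp))
  refine ⟨_, a2, _, a3, _, a4, _, a5, c2, c3, c4, c5, ?_⟩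
  rw [← eq_single_of_ncard c1 (mem_orbit_self _)]
  rw [b1, b2, b3, b4, b5, h2]
  ext x
  simp only [Set.mem_image, Set.mem_setOf_eq, Set.mem_union]
  constructor
  · rintro ⟨d, ⟨hd, u, v⟩, rfl⟩
    have : O d = 1 ∨ O d = 2 ∨ O d = 3 ∨ O d = 4 ∨ O d = 5 := by omega
    rcases this with e | e | e | e | e
    · exact (Or.inl (Or.inl (Or.inl (Or.inl ⟨d, ⟨hd, e⟩, rfl⟩))))
    · exact (Or.inl (Or.inl (Or.inl (Or.inr ⟨d, ⟨hd, e⟩, rfl⟩))))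
    · exact (Or.inl (Or.inl (Or.inr ⟨d, ⟨hd, e⟩, rfl⟩)))
    · exact (Or.inl (Or.inr ⟨d, ⟨hd, e⟩, rfl⟩))
    · exact (Or.inr ⟨d, ⟨hd, e⟩, rfl⟩)
  · rintro ((((⟨d, ⟨hd, e⟩, rfl⟩ | ⟨d, ⟨hd, e⟩, rfl⟩) | ⟨d, ⟨hd, e⟩, rfl⟩) | ⟨d, ⟨hd, e⟩, rfl⟩) | ⟨d, ⟨hd, e⟩, rfl⟩) <;> exact ⟨d, ⟨hd, by omega, by omega⟩, rfl⟩

end Cfsg.Agent.PC
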